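import Cfsg.Agent.U4T.CoC
import Cfsg.Agent.U4T.CoD

/-! Project U4T: the data in the automorphism group of the Leech lattice.  See `notes/U4T.md`. -/

set_option autoImplicit false

namespace Cfsg.Agent.U4T

open U4F FK Matrix Subgroup
open RFS (Au)
open SR3 (nm ce)
open H9 (F9)

namespace Co

open H14 H15 H97 H26.CoInv CoD
open C3X (SS wd ph wd_rel ph_eq ph_single co_data jv pv)
open U5F (σ)

/-- coordinates -/
def co (x : S) : Fin 6 → ZMod 3 := ![x.d.re, x.c.re, x.c.im, x.b.re, x.a.im, x.a.re]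

/-- the element of the larger model group -/
def em (v : Fin 6 → ZMod 3) : SS := ⟨![v 0, v 1, v 2, v 3, 0, v 3], v 5, 0, v 4⟩

/-- the embedding into the larger model group -/
def phi : S →* SS := MonoidHom.mk' (fun x => em (co x)) fun x y => by
  have h := im_zero y.hb
  refine C3X.SS.ext ?_ ?_ ?_ ?_
  · rw [C3X.mul_v]
    refine C3X.v_ext ?_ ?_ ?_ ?_ ?_ ?_ <;> simp [em, co, C3X.pf, σ_eq, h] <;> ring
  · simp [em, co, C3X.mul_a]
  · simp [em, C3X.mul_b]
  · simp [em, co, C3X.mul_c]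

theorem phi_inj : Function.Injective phi := fun x y h => by
  have h1 : (em (co x)).v = (em (co y)).v := congrArg C3X.SS.v h
  have h2 : x.a.re = y.a.re := congrArg C3X.SS.a h
  have h3 : x.a.im = y.a.im := congrArg C3X.SS.c h
  have h4 : x.d.re = y.d.re := congrFun h1 0
  have h5 : x.c.re = y.c.re := congrFun h1 1
  have h6 : x.c.im = y.c.im := congrFun h1 2
  have h7 : x.b.re = y.b.re := congrFun h1 3
  ext <;> simp [*, im_zero x.hb, im_zero y.hb, im_zero x.hd, im_zero y.hd]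

/-- generators -/
def gS : Fin 6 → S := ![Xd 1 (map_one σ), Xc 1, Xc ii, xx, Xa ii, Xa 1]

theorem co_gS : ∀ i, co (gS i) = Pi.single i 1 := by decide

theorem ph_em (v : Fin 6 → ZMod 3) : ph (fun i => em (Pi.single i 1)) v = em v := by
  have : ∀ a b c d e f : ZMod 3, (fun p q : SS => (∀ i, p.v i = q.v i) ∧ p.a = q.a ∧ p.b = q.b ∧ p.c = q.c)
      (ph (fun i => em (Pi.single i 1)) ![a, b, c, d, e, f]) (em ![a, b, c, d, e, f]) := by decide +kernel
  have e : v = ![v 0, v 1, v 2, v 3, v 4, v 5] := C3X.v_ext rfl rfl rfl rfl rfl rfl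
  obtain ⟨h1, h2, h3, h4⟩ := this (v 0) (v 1) (v 2) (v 3) (v 4) (v 5)
  rw [← e] at h1 h2 h3 h4
  exact C3X.SS.ext (funext h1) h2 h3 h4

theorem map_ph {G H : Type*} [Group G] [Group H] (f : G →* H) (L : Fin 6 → G) (v : Fin 6 → ZMod 3) :
    f (ph L v) = ph (fun i => f (L i)) v := by
  simp [ph_eq, map_list_prod, Function.comp_def]

theorem ph_co (x : S) : ph gS (co x) = x := phi_inj (by
  rw [map_ph]
  show ph (fun i => em (co (gS i))) _ = em _
  simp only [co_gS, ph_em])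

theorem ind {H : Subgroup S} (hH : ∀ x ∈ H, ∀ i, co x i ≠ 0 → gS i ∈ H) {P : S → Prop} (h1 : P 1)
    (hm : ∀ x ∈ H, ∀ y ∈ H, P x → P y → P (x * y)) (hg : ∀ i, gS i ∈ H → P (gS i)) : ∀ x ∈ H, P x := fun x hx => by
  have : ∀ L : List S, (∀ s ∈ L, s ∈ H ∧ P s) → L.prod ∈ H ∧ P L.prod := fun L h =>
    List.prod_induction (fun s => s ∈ H ∧ P s) (fun a b c d => ⟨mul_mem c.1 d.1, hm a c.1 b d.1 c.2 d.2⟩)
      ⟨one_mem _, h1⟩ h
  rw [← ph_co x]
  refine (this _ fun s hs => ?_).2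
  simp only [wd, List.mem_flatMap, List.mem_replicate] at hs
  obtain ⟨i, -, k, rfl⟩ := hs
  have := hH x hx i fun e => k (by rw [e]; rfl)
  exact ⟨this, hg i this⟩

theorem hQ : ∀ x ∈ (sQ : Subgroup S), ∀ i, co x i ≠ 0 → gS i ∈ (sQ : Subgroup S) := fun x hx i h => by
  fin_cases i <;> first | rfl | exact absurd (congrArg QuadraticAlgebra.re (mem_sQ.1 hx)) h

theorem hJ : ∀ x ∈ (sJ : Subgroup S), ∀ i, co x i ≠ 0 → gS i ∈ (sJ : Subgroup S) := fun x hx i h => by
  fin_cases i <;> first | rfl | exact absurd (congrArg QuadraticAlgebra.re (mem_sJ.1 hx)) h |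
    exact absurd (congrArg QuadraticAlgebra.im (mem_sJ.1 hx)) h

theorem neQ : ∀ i, gS i ∈ (sQ : Subgroup S) → i ≠ 3 := by
  rintro _ h rfl
  exact one_ne_zero (mem_sQ.1 h)

theorem ltJ : ∀ i, gS i ∈ (sJ : Subgroup S) → i < 4 := by
  simp only [mem_sJ]
  decide

theorem conj_of {u : S →* Co0} (hu : ∀ i, IsMat (u (gS i)) (gm i) 8) {g : Co0} {A : ℕ} (hg : IsMat g A 8)
    {H : Subgroup S} (hH : ∀ x ∈ H, ∀ i, co x i ≠ 0 → gS i ∈ H) {f : S → S}
    (hf : ∀ x ∈ H, ∀ y ∈ H, f (x * y) = f x * f y) (k : ∀ i, gS i ∈ H → cjOK A i (co (f (gS i))) = true) :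
    ∀ x ∈ H, g * u x * g⁻¹ = u (f x) := by
  refine ind hH ?_ (fun x hx y hy a b => by rw [hf x hx y hy, map_mul, map_mul, ← a, ← b]; group) fun i hi => ?_
  · have := hf 1 (one_mem _) 1 (one_mem _)
    rw [mul_one, left_eq_mul] at this
    simp [this]
  · rw [mul_inv_eq_iff_eq_mul, ← ph_co (f (gS i)), map_ph]
    simpa [ph] using relOK_spec (gs := [g, u (gS i)]) (ks := wd (fun i => u (gS i)) _ ++ [g]) (by simp [hg, hu])
      (List.rel_append (wd_rel (r := fun g A => IsMat g A 8) hu _) (by simp [hg])) (k i hi)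

theorem exists_u : ∃ u : S →* Co0, Function.Injective u ∧ ∀ i, IsMat (u (gS i)) (gm i) 8 := by
  obtain ⟨j, x, y, t, g1, g2, h, h0, -, -, hj, hx, -, ht⟩ := co_data
  obtain ⟨w, hw⟩ := exists_isMat ok1.2.1
  have v1 : (1 : ZMod 3).val = 1 := rfl
  have inj : Function.Injective h.hom := C3X.inj_of_z fun e => h0 (by
    rw [← e, h.hom_jv, ← ph_single j 0]; congr 1; decide)
  have e3 : w = j 3 * j 5 := by
    simpa using relOK_spec (gs := [w]) (ks := [j 3, j 5]) (by simp [hw]) (by simp [hj]) ok1.2.2.2.2.2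
  have e : ∀ i, h.hom (em (Pi.single i 1)) = ![j 0, j 1, j 2, w, t, x] i := fun i => by
    fin_cases i
    · exact (congrArg h.hom (C3X.SS.ext (by decide) rfl rfl rfl)).trans ((h.hom_jv _).trans (ph_single j 0))
    · exact (congrArg h.hom (C3X.SS.ext (by decide) rfl rfl rfl)).trans ((h.hom_jv _).trans (ph_single j 1))
    · exact (congrArg h.hom (C3X.SS.ext (by decide) rfl rfl rfl)).trans ((h.hom_jv _).trans (ph_single j 2))
    · show h.hom (em (Pi.single 3 1)) = w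
      rw [show em (Pi.single 3 1) = jv (Pi.single 3 1 + Pi.single 5 1) from C3X.SS.ext (by decide) rfl rfl rfl,
        h.hom_jv, h.add, ph_single, ph_single, e3]
    · exact (congrArg h.hom (C3X.SS.ext (by decide) rfl rfl rfl)).trans ((h.hom_pv 0 0 1).trans (by simp [v1]))
    · exact (congrArg h.hom (C3X.SS.ext (by decide) rfl rfl rfl)).trans ((h.hom_pv 1 0 0).trans (by simp [v1]))
  refine ⟨h.hom.comp phi, inj.comp phi_inj, fun i => ?_⟩
  rw [show (h.hom.comp phi) (gS i) = h.hom (em (co (gS i))) from rfl, co_gS, e]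
  fin_cases i
  exacts [hj 0, hj 1, hj 2, hw, ht, hx]

theorem qa_mul (k : Fin 6) : ∀ x ∈ (sQ : Subgroup S), ∀ y ∈ (sQ : Subgroup S),
    qa (MR k) (-1) (x * y) = qa (MR k) (-1) x * qa (MR k) (-1) y := fun x hx y hy => by
  have : ∀ v w, bf (MR k *ᵥ v) (MR k *ᵥ w) = -1 * bf v w := fun v w => by
    fin_cases k <;> simp [MR, bf, Matrix.mulVec, dotProduct, Fin.sum_univ_four] <;>
      generalize v 0 = a, v 1 = b, v 2 = c, v 3 = d, w 0 = a', w 1 = b', w 2 = c', w 3 = d' <;>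
      ring_nf <;> simp only [show (2 : F) = -1 from rfl, show (4 : F) = 1 from rfl, show (3 : F) = 0 from rfl,
        show (5 : F) = -1 from rfl, show (6 : F) = 0 from rfl, show (8 : F) = -1 from rfl] <;> ring
  rw [← mkQ_vv hx, ← mkQ_vv hy, mkQ_mul]
  simp only [qa, vv_mkQ, ee_mkQ, mkQ_mul, this, mulVec_add, mul_add]

theorem co_R : ∀ k i, i ≠ 3 → co (qa (MR k) (-1) (gS i)) = tR k i := by decide

theorem co_tt (i : Fin 6) : co (tt (gS i)) = tR 0 i := by
  simp only [co, tt, tor_a, tor_b, tor_c, tor_d, σ_eq]; revert i; decide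

theorem co_T (i : Fin 6) : co (tor ze 1 (gS i)) = tT i := by
  simp only [co, tor_a, tor_b, tor_c, tor_d, σ_eq]; revert i; decide

theorem co_F {φ : F9 ≃+* F9} (h : ∀ x, φ x = σ x) (i : Fin 6) : co (fld φ (gS i)) = tF i := by
  simp only [co, fld_a, fld_b, fld_c, fld_d, h, σ_eq]; revert i; decide

theorem co_W (i : Fin 6) (h : i < 4) : co (mu (gS i)) = tW i := by
  simp only [co, mu_a, mu_b, mu_c, mu_d, σ_eq]; revert i; decide

theorem fld_cases (φ : F9 ≃+* F9) : (∀ x, φ x = x) ∨ ∀ x, φ x = σ x := by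
  have e : ∀ x : F9, φ x = x.re.val + x.im.val * φ ii := fun x => by
    have : x = x.re.val + x.im.val * ii := by revert x; decide
    conv_lhs => rw [this]
    simp only [map_add, map_mul, map_natCast]
  have h : φ ii * φ ii = -1 := by rw [← map_mul, show ii * ii = -1 by decide, map_neg, map_one]
  generalize φ ii = y at e h
  simp only [e, σ_eq]
  clear e
  revert y
  decide

theorem tor_cases : ∀ a b : F9, a ≠ 0 → b ≠ 0 → ∃ n : Fin 8, (a = ze ^ n.val ∧ b * σ b = 1 * σ 1) ∨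
    (a = ze ^ n.val * ii ∧ b * σ b = 1 * ze * σ (1 * ze)) := by
  simp only [σ_eq]; decide

end Co

open Co CoD H14 H15 H97 in
theorem amb_co : ∃ (u : S →* Co0) (ω : Fin 27 → leechLattice) (r : Fin 6 → Co0), Amb u ω r := by
  obtain ⟨u, inj, hu⟩ := exists_u
  obtain ⟨k1, -, k2, k3, k4, -⟩ := ok1
  obtain ⟨m1, m2, m3, m4, m5, m6, m7, m8⟩ := ok2
  choose r hr using fun k => exists_isMat (k1 k)
  obtain ⟨gT, hT⟩ := exists_isMat k2
  obtain ⟨gF, hF⟩ := exists_isMat k3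
  obtain ⟨gW, hW⟩ := exists_isMat k4
  obtain ⟨ω, hω⟩ : ∃ ω : Fin 27 → leechLattice, ∀ i, (ω i : Vec) = vec (om i) :=
    ⟨fun i => ⟨_, vec_mem (m1 i).1⟩, fun _ => rfl⟩
  have ac : ∀ {g : Co0} {A : ℕ} {i j : Fin 27}, IsMat g A 8 → isImg A 8 (om i) (om j) = true → g • ω i = ω j :=
    fun a b => Subtype.ext ((a.smul_vec b (hω _)).trans (hω _).symm)
  have fq : ∀ x ∈ (sQ : Subgroup S), ∀ i, u x • ω i = ω i :=
    ind hQ (fun i => by simp) (fun x _ y _ a b i => by rw [map_mul, mul_smul, b, a]) fun k hk i =>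
      ac (hu k) (m3 k i (neQ k hk))
  have top : ∀ {g : Co0} {A : ℕ} {f : S → S}, IsMat g A 8 → (∀ x y, f (x * y) = f x * f y) →
      (∀ i, cjOK A i (co (f (gS i))) = true) → ∀ x, g * u x * g⁻¹ = u (f x) := fun a b c x =>
    conj_of hu a (H := ⊤) (fun _ _ _ _ => trivial) (fun x _ y _ => b x y) (fun i _ => c i) x trivial
  have r0 := top (f := tt) (hr 0) (tor_mul _ _) fun i => co_tt i ▸ ok3.1 i
  have n32 : ∀ i, sqNorm (ω i : Vec) = 32 := fun i => by rw [← dot_self, hω, ← dotP_eq, (m1 i).2]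
  refine ⟨u, ω, r, inj, fun i j e => ?_, fq, fun i => ac (hu 3) (m4 i), fun k i => ac (hr k) (m5 k i),
    fun k => conj_of hu (hr k) hQ (qa_mul k) fun i hi => ?_, r0, fun a b φ ha hb => ?_,
    ⟨gW, conj_of hu hW hJ (fun x hx y _ => mu_mul hx y) fun i hi => co_W i (ltJ i hi) ▸ ok7 i (ltJ i hi),
      fun i hi => ac hW (m8 i hi)⟩, fun c hc ⟨i, j, e⟩ => ?_, fun i => by rw [card_stab32 _ (n32 i)]; norm_num⟩
  · by_contra h
    refine (m2 i j h).1 ?_
    rw [dotP_eq, ← hω, ← hω, e, dot_self, n32]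
  · have h := neQ i hi
    rw [co_R k i h]
    fin_cases k
    exacts [ok3.1 i, ok3.2 i h, (ok4 i h).1, (ok4 i h).2, (ok5 i h).1, (ok5 i h).2]
  · let P : (S → S) → Prop := fun f => ∃ g : Co0, (∀ x, g * u x * g⁻¹ = u (f x)) ∧ ∀ i, ∃ j, g • ω i = ω j
    have pm : ∀ {f f' : S → S}, P f → P f' → P fun x => f (f' x) := fun ⟨g, a, b⟩ ⟨g', a', b'⟩ =>
      ⟨g * g', fun x => by rw [← a, ← a']; group, fun i => by
        obtain ⟨j, e⟩ := b' i
        obtain ⟨k, e'⟩ := b j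
        exact ⟨k, by rw [mul_smul, e, e']⟩⟩
    have p1 : P fun x => x := ⟨1, by simp, fun i => ⟨i, one_smul _ _⟩⟩
    have pT' : P (tor ze 1) := ⟨gT, top hT (tor_mul _ _) fun i => co_T i ▸ (ok6 i).1, fun i => ⟨_, ac hT (m6 i)⟩⟩
    have pn : ∀ n : ℕ, P (tor (ze ^ n) 1) := fun n => by
      induction n with
      | zero => simpa [funext tor_one] using p1
      | succ n ih => simpa [tor_tor, ← pow_succ] using pm ih pT'
    have pf : P (fld φ) := by
      rcases fld_cases φ with h | h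
      · rw [show fld φ = fun x : S => x from funext fun x => by ext1 <;> simp [h]]; exact p1
      · exact ⟨gF, top hF (fld_mul _) fun i => co_F h i ▸ (ok6 i).2, fun i => ⟨_, ac hF (m7 i)⟩⟩
    have pt : P (tor a b) := by
      obtain ⟨n, ⟨rfl, h⟩ | ⟨rfl, h⟩⟩ := tor_cases a b ha hb
      · rw [show tor (ze ^ n.val) b = (tor (ze ^ n.val) 1 : S → S) from funext fun x => by ext1 <;> simp only [tor, h]]
        exact pn n
      · rw [show tor (ze ^ n.val * ii) b = fun x : S => tor (ze ^ n.val) 1 (tt x) from funext fun x => by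
          rw [tt, tor_tor]; ext1 <;> simp only [tor, h]]
        exact pm (pn n) ⟨r 0, r0, fun i => ⟨_, ac (hr 0) (m5 0 i)⟩⟩
    obtain ⟨g, a, b⟩ := pm pt pf
    exact ⟨g, a, 0, b 0⟩
  · have z : gS 0 ∈ (sZ : Subgroup S) := ⟨rfl, rfl, rfl⟩
    obtain ⟨k, h | h⟩ := CoC.cen (c := c) (g := fun i => u (gS (![0, 5, 4] i)))
      (fun i => by fin_cases i; exacts [hu 0, hu 5, hu 4]) (hu 1) (hu 2)
      (fun i => by rw [← map_mul, ← map_mul]; exact congrArg u (m_Z z _))
      (fun i => hc _ (by fin_cases i <;> rfl)) (hc _ rfl) (hc _ rfl)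
    · exact ⟨_, pow_mem z k, h.trans (map_pow u _ k).symm⟩
    · rw [h, mul_smul, ← map_pow, fq _ (pow_mem (show _ ∈ (sQ : Subgroup S) from rfl) k), negC_smul] at e
      have d : dotInt (ω i : Vec) (ω j) = -32 := by
        rw [← e, AddSubgroup.coe_neg, dot_neg_right, dot_self, n32]
      by_cases h' : i = j
      · rw [h', dot_self, n32] at d; omega
      · exact absurd (by rwa [dotP_eq, ← hω, ← hω]) (m2 i j h').2

end Cfsg.Agent.U4T
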