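import Cfsg.Agent.U4T.Yh

/-! Project U4T: the Sylow subgroup of the realizing group.  See `notes/U4T.md`. -/

set_option autoImplicit false

namespace Cfsg.Agent.U4T

open U4F FK Matrix Subgroup
open RFS (Au)
open SR3 (nm ce)
open H9 (F9)

variable {C L : Type} [Group C] [Finite C] [MulAction C L] {u : S →* C} {ω : Fin 27 → L} {r : Fin 6 → C}
  {G : Type*} [Group G] [Finite G] {v : S →* G}

theorem Amb.syl_Gp (h : Amb u ω r) (hv : Hy v) {P : Set (Fin 27)} (h0 : P.Nonempty)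
    (h1 : ∀ y ∈ Yh u r v, ∀ i ∈ P, ∃ j ∈ P, y • ω i = ω j) (h2 : ∀ i ∈ P, px i = i) :
    ¬ 3 ∣ u.range.relIndex (Gp ω (Yh u r v) P h1) := by
  let G0 : Subgroup C := ⨅ i ∈ P, MulAction.stabilizer C (ω i)
  have m0 : ∀ g, g ∈ G0 ↔ ∀ i ∈ P, g • ω i = ω i := fun g => by
    simp only [G0, mem_iInf, MulAction.mem_stabilizer_iff]
  have r0 : u.range ≤ G0 := by
    rintro _ ⟨s, rfl⟩
    obtain ⟨π, hπ, e⟩ := h.acts s
    refine (m0 _).2 fun i hi => ?_
    have : π ∈ MulAction.stabilizer (Equiv.Perm (Fin 27)) i :=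
      (zpowers_le.2 (MulAction.mem_stabilizer_iff.2 (h2 i hi))) hπ
    rw [e, show π i = i from this]
  have n0 : Yh u r v ≤ nm G0 := fun y hy => SR3.mem_nm_of_conj fun x hx => (m0 _).2 fun i hi => by
    obtain ⟨j, hj, e⟩ := h1 y⁻¹ (inv_mem hy) i hi
    rw [mul_smul, mul_smul, e, (m0 x).1 hx j hj, ← e, smul_inv_smul]
  have eG : Gp ω (Yh u r v) P h1 = Yh u r v ⊔ G0 := by
    refine le_antisymm ?_ (sup_le (fun y hy => ⟨y, hy, fun _ _ => rfl⟩)
      fun g hg => ⟨1, one_mem _, fun i hi => by rw [one_smul, (m0 g).1 hg i hi]⟩)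
    rintro g ⟨y, hy, e⟩
    rw [← mul_inv_cancel_left y g]
    exact mul_mem (mem_sup_left hy) (mem_sup_right ((m0 _).2 fun i hi => by
      rw [mul_smul, e i hi, inv_smul_smul]))
  have cR : Nat.card u.range = 3 ^ 6 := by
    rw [← card_S]
    exact (Nat.card_congr (MonoidHom.ofInjective h.inj).toEquiv).symm
  have c1 := SR3.card_sup_mul n0
  have c2 := H91.card_mul_relIndex (h.range_Yh (v := v))
  have c3 := H91.card_mul_relIndex (le_inf (h.range_Yh (v := v)) r0)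
  have c4 := H91.card_mul_relIndex ((h.range_Yh (v := v)).trans (le_sup_left (b := G0)))
  obtain ⟨i0, hi0⟩ := h0
  have c5 : ¬ 3 ^ 7 ∣ Nat.card G0 := fun e =>
    h.syl i0 (e.trans (card_dvd_of_le fun g hg => (m0 g).1 hg i0 hi0))
  rw [eG]
  rintro ⟨k, hk⟩
  rw [← c2, ← c3, ← c4, hk, cR] at c1
  have c6 : 3 ^ 7 ∣ u.range.relIndex (Yh u r v) * Nat.card G0 := by
    refine ⟨k * u.range.relIndex (Yh u r v ⊓ G0), Nat.eq_of_mul_eq_mul_left (show 0 < 3 ^ 6 by norm_num) ?_⟩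
    rw [← mul_assoc, ← c1]
    ring
  exact c5 ((Nat.Coprime.pow_left 7 ((Nat.Prime.coprime_iff_not_dvd Nat.prime_three).2
    (h.syl_Yh hv))).dvd_of_dvd_mul_left c6)

end Cfsg.Agent.U4T
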