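import Cfsg.Agent.U4T.Yb
import Cfsg.Agent.U4T.Syl
import Cfsg.Agent.U4T.Co

/-! Project U4T: the realization.  See `notes/U4T.md`. -/

set_option autoImplicit false

namespace Cfsg.Agent.U4T

open U4F FK Matrix Subgroup
open RFS (Au)
open SR3 (nm ce)
open H9 (F9)

section
variable {C L : Type} [Group C] [Finite C] [MulAction C L] {u : S →* C} {ω : Fin 27 → L} {r : Fin 6 → C}
  {G : Type*} [Group G] [Finite G] {v : S →* G}

theorem Amb.lift (h : Amb u ω r) (hv : Hy v) {f : S → S} (hf : Fa v ⊤ f) :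
    ∃ k ∈ Yh u r v, ∀ x, k * u x * k⁻¹ = u (f x) := by
  obtain ⟨s, a, b, φ, ha, hb, e⟩ := hv.std f hf
  obtain ⟨g, hg, i, j, o⟩ := h.st a b φ ha hb
  obtain ⟨π, -, o'⟩ := h.acts s
  have k : ∀ x, u s * g * u x * (u s * g)⁻¹ = u (f x) := fun x => by
    rw [e, map_mul, map_mul, map_inv, ← hg]; group
  have c := hv.two.chQ f hf.au
  exact ⟨_, ⟨h.mem (nm_of_ind c fun x _ => k x) ⟨i, π j, by rw [mul_smul, o, o']⟩, f, hf.res le_top c,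
    fun x _ => k x⟩, k⟩

theorem Amb.q3 (h : Amb u ω r) (hv : Hy v) :
    ∃ (G' : Type) (_ : Group G') (_ : Finite G') (u' : S →* G'), Function.Injective u' ∧
      ¬ 3 ∣ u'.range.index ∧ In u' sJ U4F.mu ∧ (∀ f, Fa v ⊤ f ↔ Fa u' ⊤ f) ∧ ∀ f, Fa v sQ f ↔ Fa u' sQ f := by
  obtain ⟨P, h0, h1, h2, h3⟩ := h.exists_P hv
  have sy := h.syl_Gp hv h0 h1 h2
  have YG : Yh u r v ≤ Gp ω (Yh u r v) P h1 := fun y hy => ⟨y, hy, fun _ _ => rfl⟩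
  have GY : ∀ g ∈ Gp ω (Yh u r v) P h1, g ∈ nm (sQ.map u) → g ∈ Yh u r v := fun g ⟨y, hy, e⟩ hg => by
    have e' : ∀ i ∈ P, (y⁻¹ * g) • ω i = ω i := fun i hi => by rw [mul_smul, e i hi, inv_smul_smul]
    obtain ⟨i, hi⟩ := h0
    simpa using mul_mem hy (h3 _ (h.mem (mul_mem (inv_mem (h.le_nm hy.1)) hg) ⟨i, i, e' i hi⟩) e')
  have mu' : ∃ g ∈ Gp ω (Yh u r v) P h1, ∀ x ∈ (sJ : Subgroup S), g * u x * g⁻¹ = u (U4F.mu x) :=
    let ⟨g, a, b⟩ := h.mu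
    ⟨g, ⟨1, one_mem _, fun i hi => by rw [b i (h2 i hi), one_smul]⟩, a⟩
  generalize Gp ω (Yh u r v) P h1 = X at sy YG GY mu'
  let u' : S →* X := u.codRestrict X fun x => YG (h.range_Yh ⟨x, rfl⟩)
  have ii : ∀ {A : Subgroup S} {f : S → S}, In u' A f ↔ ∃ g ∈ X, ∀ a ∈ A, g * u a * g⁻¹ = u (f a) :=
    ⟨fun ⟨g, e⟩ => ⟨g, g.2, fun a ha => congrArg Subtype.val (e a ha)⟩,
      fun ⟨g, hg, e⟩ => ⟨⟨g, hg⟩, fun a ha => Subtype.ext (e a ha)⟩⟩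
  have q2 : ∀ f, Fa u' sQ f → Fa v sQ f := fun f hf => by
    obtain ⟨g, hg, e⟩ := ii.1 hf.ind
    obtain ⟨-, f', a, b⟩ := GY g hg (nm_of_ind hf.au.mem e)
    exact a.congr fun x hx => h.inj ((b x hx).symm.trans (e x hx))
  refine ⟨X, inferInstance, inferInstance, u', fun a b e => h.inj (congrArg Subtype.val e), ?_, ii.2 mu',
    fun f => ⟨fun hf => ?_, fun hf => ?_⟩, fun f => ⟨fun hf => ?_, q2 f⟩⟩
  · have : u'.range = u.range.subgroupOf X := by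
      ext x
      exact ⟨fun ⟨a, e⟩ => ⟨a, congrArg Subtype.val e⟩, fun ⟨a, e⟩ => ⟨a, Subtype.ext e⟩⟩
    rw [this]
    exact sy
  · obtain ⟨k, hk, e⟩ := h.lift hv hf
    exact ⟨hf.au, ii.2 ⟨k, YG hk, fun a _ => e a⟩⟩
  · have c := hv.two.chQ f hf.au
    obtain ⟨f', a, b⟩ := hv.two.ti (q2 f (hf.res le_top c)) (x := xx) (fun k => one_ne_zero (α := F9) k)
      (Fa.conj v (f xx) fun _ _ => trivial) fun a _ => hf.au.map_conj trivial trivial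
    obtain ⟨k, hk, e⟩ := h.lift hv a
    obtain ⟨g, hg, e'⟩ := ii.1 hf.ind
    obtain ⟨z, hz, rfl⟩ := h.cen' (GY g hg (nm_of_ind c fun x _ => e' x trivial)).1 hk.1 fun x hx => by
      rw [e' x trivial, e, b x hx]
    refine a.congr fun x _ => h.inj ?_
    rw [← e, ← e' x trivial, mul_assoc k (u z), ← map_mul, m_Z hz, map_mul]
    group
  · obtain ⟨g, hg, e⟩ := h.real hf.au
    exact ⟨hf.au, ii.2 ⟨g, YG ⟨hg, f, hf, e⟩, e⟩⟩

end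

theorem q3 {G : Type*} [Group G] [Finite G] {v : S →* G} (hv : Hy v) :
    ∃ (G' : Type) (_ : Group G') (_ : Finite G') (u' : S →* G'), Function.Injective u' ∧
      ¬ 3 ∣ u'.range.index ∧ In u' sJ mu ∧ (∀ f, Fa v ⊤ f ↔ Fa u' ⊤ f) ∧ ∀ f, Fa v sQ f ↔ Fa u' sQ f := by
  obtain ⟨u, ω, r, h⟩ := amb_co
  have := H15.finite_Co0
  exact h.q3 hv

end Cfsg.Agent.U4T
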