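import Cfsg.Agent.U4T.Defs

/-! Project U4T: the automorphisms of the extraspecial group.  See `notes/U4T.md`. -/

set_option autoImplicit false

namespace Cfsg.Agent.U4T

open U4F FK Matrix Subgroup
open RFS (Au)
open SR3 (nm ce)
open H9 (F9)

namespace AutQ

theorem bf_swap (v w : Fin 4 → F) : bf w v = -bf v w := by simp only [bf]; ring

theorem bf_zero (v : Fin 4 → F) : bf v 0 = 0 := by simp [bf]

theorem zero_bf (v : Fin 4 → F) : bf 0 v = 0 := by simp [bf]

theorem nondeg {v : Fin 4 → F} (h : ∀ w, bf v w = 0) : v = 0 := by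
  have h0 := h ![0, 0, 1, 0]
  have h1 := h ![0, 0, 0, 1]
  have h2 := h ![1, 0, 0, 0]
  have h3 := h ![0, 1, 0, 0]
  simp [bf] at h0 h1 h2 h3
  funext i
  fin_cases i <;> simp [h0, h1, h2, h3]

theorem cj (a w : Fin 4 → F) (e : F) : mkQ a 0 * mkQ w e * (mkQ a 0)⁻¹ = mkQ w (e + 2 * bf a w) := by
  rw [mul_inv_eq_iff_eq_mul, mkQ_mul, mkQ_mul, add_comm w, bf_swap a w]
  congr 1
  ring

theorem lin {W : Type*} [AddCommGroup W] [Module F W] {l : W → F} (h : ∀ v w, l (v + w) = l v + l w) (c : F) (v : W) :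
    l (c • v) = c * l v := (AddMonoidHom.toZModLinearMap 3 (AddMonoidHom.mk' l h)).map_smul c v

theorem sq_one : ∀ m : F, m ≠ 0 → m * m = 1 := by decide

theorem rep {l : (Fin 4 → F) → F} (h : ∀ v w, l (v + w) = l v + l w) : ∃ a, ∀ v, l v = bf a v := by
  refine ⟨![l ![0, 0, 1, 0], l ![0, 0, 0, 1], -l ![1, 0, 0, 0], -l ![0, 1, 0, 0]], fun v => ?_⟩
  have : v = v 0 • ![1, 0, 0, 0] + v 1 • ![0, 1, 0, 0] + v 2 • ![0, 0, 1, 0] + v 3 • ![0, 0, 0, 1] := by
    funext i; fin_cases i <;> simp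
  conv_lhs => rw [this]
  rw [h, h, h, lin h, lin h, lin h, lin h]
  simp [bf]
  ring

end AutQ

open AutQ in
theorem aut_Q {f : S → S} (h : Au sQ f) : ∃ (M : Matrix (Fin 4) (Fin 4) F) (m : F), ∃ s ∈ (sQ : Subgroup S),
    Sim M m ∧ ∀ x ∈ (sQ : Subgroup S), f x = s * qa M m x * s⁻¹ := by
  obtain ⟨A, B, hf⟩ : ∃ (A : (Fin 4 → F) → F → Fin 4 → F) (B : (Fin 4 → F) → F → F),
      ∀ v e, f (mkQ v e) = mkQ (A v e) (B v e) :=
    ⟨_, _, fun v e => (mkQ_vv (h.mem _ (mkQ_mem v e))).symm⟩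
  have R : ∀ v e w g, A (v + w) (e + g + bf v w) = A v e + A w g ∧
      B (v + w) (e + g + bf v w) = B v e + B w g + bf (A v e) (A w g) := fun v e w g => by
    have := h.mul _ (mkQ_mem v e) _ (mkQ_mem w g)
    rw [mkQ_mul, hf, hf, hf, mkQ_mul] at this
    exact ⟨by simpa using congrArg vv this, by simpa using congrArg ee this⟩
  have A0 : ∀ e, A 0 e = 0 := fun e => nondeg fun u => by
    obtain ⟨x, hx, k⟩ := h.sur _ (mkQ_mem u 0)
    rw [← mkQ_vv hx, hf] at k
    have k' : A (vv x) (ee x) = u := by simpa using congrArg vv k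
    have e1 := (R 0 e (vv x) (ee x)).2
    have e2 := (R (vv x) (ee x) 0 e).2
    rw [zero_add, zero_bf, k'] at e1
    rw [add_zero, bf_zero, add_comm (ee x), k', bf_swap, e1] at e2
    linear_combination -e2 + bf (A 0 e) u * three
  have Ae : ∀ v e, A v e = A v 0 := fun v e => by simpa [bf_zero, A0] using (R v 0 0 e).1
  have Aa : ∀ v w, A (v + w) 0 = A v 0 + A w 0 := fun v w => by rw [← (R v 0 w 0).1, Ae (v + w) (_ + _)]
  have B0 : ∀ e, B 0 e = e * B 0 1 := fun e => by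
    have := lin (l := B 0) (fun e g => by simpa [bf_zero, A0] using (R 0 e 0 g).2) e 1
    rwa [smul_eq_mul, mul_one] at this
  have Be : ∀ v e, B v e = B v 0 + e * B 0 1 := fun v e => by
    rw [← B0]; simpa [bf_zero, A0] using (R v 0 0 e).2
  have key : ∀ v w, B (v + w) 0 + bf v w * B 0 1 = B v 0 + B w 0 + bf (A v 0) (A w 0) := fun v w => by
    rw [← (R v 0 w 0).2, Be _ (_ + _), zero_add, zero_add]
  have sim : ∀ v w, bf (A v 0) (A w 0) = B 0 1 * bf v w := fun v w => by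
    have e1 := key v w
    have e2 := key w v
    rw [add_comm w v, bf_swap v w, bf_swap (A v 0)] at e2
    linear_combination e1 - e2 + (bf (A v 0) (A w 0) - B 0 1 * bf v w) * three
  have m0 : B 0 1 ≠ 0 := fun k => by
    have := h.inj _ (mkQ_mem 0 1) _ (mkQ_mem 0 0) (by rw [hf, hf, A0, A0, B0 0, k, mul_zero])
    exact one_ne_zero (by simpa using congrArg ee this : (1 : F) = 0)
  obtain ⟨a, ha⟩ := rep (l := fun v => B v 0) fun v w => by linear_combination key v w + sim v w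
  let L := AddMonoidHom.toZModLinearMap 3 (AddMonoidHom.mk' (fun v => A v 0) Aa)
  have hM : ∀ v, LinearMap.toMatrix' L *ᵥ v = A v 0 := fun v => LinearMap.toMatrix'_mulVec L v
  refine ⟨LinearMap.toMatrix' L, B 0 1, mkQ (A ((2 * B 0 1) • a) 0) 0, mkQ_mem _ _,
    ⟨m0, fun v w => by rw [hM, hM, sim]⟩, fun x hx => ?_⟩
  rw [qa, cj, hM, sim, ← mkQ_vv hx, hf, Ae, Be, vv_mkQ, ee_mkQ, ha]
  congr 1
  have := sq_one _ m0
  simp only [bf, Pi.smul_apply, smul_eq_mul]
  linear_combination (-(4 : F) * this - three) *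
    (a 0 * vv x 2 + a 1 * vv x 3 - (vv x 0 * a 2 + vv x 1 * a 3))

theorem exists_pow (s : S) : ∃ q ∈ (sQ : Subgroup S), ∃ k : ℕ, s = q * xx ^ k := by
  refine ⟨s * (xx ^ s.b.re.val)⁻¹, ?_, s.b.re.val, by group⟩
  have := im_zero s.hb
  rw [mem_sQ, US.mul_b, US.inv_b, pow_b]
  show s.b + -((s.b.re.val : F9) * 1) = 0
  revert this
  generalize s.b = y
  revert y
  decide

theorem card_S : Nat.card S = 3 ^ 6 := US.card_US

end Cfsg.Agent.U4T
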