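import Cfsg.Agent.U4T.Defs
import Cfsg.Agent.H26.CoInv

/-! Project U4T: the centralizer of the extraspecial group in `Co0`.  See `notes/U4T.md`. -/

set_option autoImplicit false

namespace Cfsg.Agent.U4T

open U4F FK Matrix Subgroup
open H9 (F9)
open H15 (Vec)

namespace CoA

open H15

/-- the inner product of lattice vectors -/
def D (v w : leechLattice) : ℤ := dotInt (v : Vec) (w : Vec)

theorem D_comm (v w : leechLattice) : D v w = D w v := dot_comm _ _
theorem D_add_l (x y w : leechLattice) : D (x + y) w = D x w + D y w := dot_add_left _ _ _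
theorem D_add_r (w x y : leechLattice) : D w (x + y) = D w x + D w y := dot_add_right _ _ _
theorem D_sub_l (x y w : leechLattice) : D (x - y) w = D x w - D y w := dot_sub_left _ _ _
theorem D_sub_r (w x y : leechLattice) : D w (x - y) = D w x - D w y := dot_sub_right _ _ _
theorem D_smul_l (c : ℤ) (x w : leechLattice) : D (c • x) w = c * D x w := dot_smul_left _ _ _
theorem D_smul_r (c : ℤ) (w x : leechLattice) : D w (c • x) = c * D w x := dot_smul_right _ _ _
theorem D_zero_l (w : leechLattice) : D 0 w = 0 := by simp [D, dotInt]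
theorem D_zero_r (w : leechLattice) : D w 0 = 0 := by simp [D, dotInt]
theorem D_g (g : Co0) (v w : leechLattice) : D (g • v) (g • w) = D v w := co0_dot g v w
theorem D_self (v : leechLattice) : D v v = sqNorm (v : Vec) := dot_self _

/-- null vectors -/
def Nul (z : Co0) (y : leechLattice) : Prop := y + z • y + z • z • y = 0

theorem Nul.g {z g : Co0} {y : leechLattice} (h : Nul z y) (e : g * z = z * g) : Nul z (g • y) := by
  have k : ∀ v : leechLattice, z • g • v = g • z • v := fun v => by rw [← mul_smul, ← e, mul_smul]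
  unfold Nul at h ⊢
  rw [k, k, ← co0_smul_add, ← co0_smul_add, h, co0_smul_zero]

theorem Nul.lin {z : Co0} {x y : leechLattice} (h : Nul z x) (k : Nul z y) (r s : ℤ) : Nul z (r • x + s • y) := by
  unfold Nul at h k ⊢
  simp only [co0_smul_add, co0_smul_zsmul]
  generalize z • z • x = x2 at h ⊢
  generalize z • z • y = y2 at k ⊢
  generalize z • x = x1 at h ⊢
  generalize z • y = y1 at k ⊢
  linear_combination (norm := module) r • h + s • k

theorem Nul.sub {z : Co0} {x y : leechLattice} (h : Nul z x) (k : Nul z y) : Nul z (x - y) := by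
  unfold Nul at h k ⊢
  simp only [co0_smul_sub]
  linear_combination (norm := abel) h - k

theorem Nul.zsmul {z : Co0} {x : leechLattice} (h : Nul z x) (r : ℤ) : Nul z (r • x) := by
  simpa using h.lin h r 0

theorem Nul.orth {z : Co0} {y f : leechLattice} (h : Nul z y) (e : z • f = f) : D y f = 0 := by
  have e1 := D_g z y f
  have e2 := D_g z (z • y) f
  have e3 := congrArg (fun v => D v f) h
  simp only [D_add_l, D_zero_l] at e3
  rw [e] at e1 e2
  omega

theorem mk0 : mkQ 0 0 = 1 := by ext <;> simp [mkQ]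

theorem z0_mem : mkQ 0 1 ∈ (sZ : Subgroup S) := ⟨rfl, rfl, rfl⟩

theorem z0_cube : mkQ 0 1 * mkQ 0 1 * mkQ 0 1 = 1 := by
  rw [mkQ_mul, mkQ_mul, ← mk0]
  congr 1 <;> first | rfl | simp [bf]

theorem Xa_eq (a b : F) : (Xa ⟨a, b⟩ : S) = mkQ ![a, b, 0, 0] 0 := by ext <;> simp [mkQ, Xa]

theorem Y_cases {q : S} (h : q ∈ (sY : Subgroup S)) :
    q = 1 ∨ q = mkQ 0 1 ∨ q = mkQ 0 1 * mkQ 0 1 ∨ ∃ t, Xa t * q = mkQ 0 1 * q * Xa t := by
  have e := mkQ_vv (x := q) h.2
  have h0 : vv q 0 = 0 := by simp [vv, h.1]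
  have h1 : vv q 1 = 0 := by simp [vv, h.1]
  generalize vv q = v at e h0 h1
  generalize ee q = f at e
  subst e
  rcases (by decide : ∀ c d : F, (c = 0 ∧ d = 0) ∨ ∃ a b : F, a * c + b * d = 2) (v 2) (v 3) with
    ⟨h2, h3⟩ | ⟨a, b, k⟩
  · obtain rfl : v = 0 := by funext i; fin_cases i <;> assumption
    rcases (by decide : ∀ f : F, f = 0 ∨ f = 1 ∨ f = 1 + 1) f with rfl | rfl | rfl
    · exact .inl mk0
    · exact .inr (.inl rfl)
    · refine .inr (.inr (.inl ?_))
      rw [mkQ_mul]
      congr 1 <;> simp [bf]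
  · refine .inr (.inr (.inr ⟨⟨a, b⟩, ?_⟩))
    rw [Xa_eq, mkQ_mul, mkQ_mul, mkQ_mul]
    congr 1
    · rw [zero_add, add_comm]
    · simp [bf, h0, h1]
      linear_combination 2 * k + three

theorem eis {r q : ℤ} (n : r * r - r * q + q * q = 1) : -1 ≤ r ∧ r ≤ 1 ∧ -1 ≤ q ∧ q ≤ 1 := by
  refine ⟨?_, ?_, ?_, ?_⟩ <;> nlinarith [sq_nonneg (2 * r - q), sq_nonneg (2 * q - r)]

theorem eig {c : Co0} {ε : ℤ} (he : ε * ε = 1) {w : leechLattice} (h : c • w = ε • w) (v : leechLattice) :
    D (c • v - ε • v) w = 0 := by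
  have := D_g c v w
  rw [h, D_smul_r] at this
  rw [D_sub_l, D_smul_l, ← this, ← mul_assoc, he, one_mul, sub_self]

variable {u : S →* Co0} {z : Co0} {a : leechLattice} {lam : Fin 6 → leechLattice}

theorem z3 (hz : z = u (mkQ 0 1)) (v : leechLattice) : z • z • z • v = v := by
  rw [← mul_smul, ← mul_smul, hz, ← map_mul, ← map_mul, z0_cube, map_one, one_smul]

theorem zc (hz : z = u (mkQ 0 1)) (x : S) : u x * z = z * u x := by
  rw [hz, ← map_mul, ← map_mul, m_Z z0_mem]

theorem fix6 (hz : z = u (mkQ 0 1)) (v : leechLattice) : z • (v + z • v + z • z • v) = v + z • v + z • z • v := by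
  rw [co0_smul_add, co0_smul_add, z3 hz]; abel

theorem key1 (hz : z = u (mkQ 0 1)) (hA : ∀ t, u (Xa t) • a = a) (h0 : Nul z a)
    (span : ∀ y : leechLattice, (∀ q ∈ (sY : Subgroup S), D y (u q • a) = 0) →
      (∀ k, D y (lam k + z • lam k + z • z • lam k) = 0) → y = 0)
    {y : leechLattice} (n : Nul z y) (f : ∀ t, u (Xa t) • y = y) (o1 : D y a = 0) (o2 : D y (z • a) = 0) :
    y = 0 := by
  refine span y (fun q hq => ?_) fun k => n.orth (fix6 hz _)
  rcases Y_cases hq with rfl | rfl | rfl | ⟨t, e⟩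
  · rwa [map_one, one_smul]
  · rwa [← hz]
  · have := congrArg (D y) h0
    rw [D_add_r, D_add_r, D_zero_r, o1, o2] at this
    rw [map_mul, ← hz, mul_smul]
    omega
  · have e1 : u (Xa t) • u q • a = z • u q • a := by
      rw [← mul_smul, ← map_mul, e, map_mul, map_mul, ← hz, mul_smul, mul_smul, hA]
    have e2 : u (Xa t) • z • u q • a = z • z • u q • a := by rw [← mul_smul, zc hz, mul_smul, e1]
    have d1 := D_g (u (Xa t)) y (u q • a)
    have d2 := D_g (u (Xa t)) y (z • u q • a)
    have d3 := congrArg (D y) (h0.g (zc hz q))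
    rw [D_add_r, D_add_r, D_zero_r] at d3
    rw [f, e1] at d1
    rw [f, e2] at d2
    omega

theorem key2 (hz : z = u (mkQ 0 1)) (nl : ∀ k, sqNorm ((lam k + z • lam k + z • z • lam k : leechLattice) : Vec) = 48)
    (span : ∀ y : leechLattice, (∀ q ∈ (sY : Subgroup S), D y (u q • a) = 0) →
      (∀ k, D y (lam k + z • lam k + z • z • lam k) = 0) → y = 0)
    {c : Co0} (hc : ∀ x ∈ (sQ : Subgroup S), c * u x = u x * c) {ε : ℤ} (he : ε * ε = 1) (ha : c • a = ε • a)
    (v : leechLattice) : c • v = ε • v := by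
  have cz : c * z = z * c := hz ▸ hc _ (mkQ_mem _ _)
  have cz' : ∀ v : leechLattice, c • z • v = z • c • v := fun v => by rw [← mul_smul, cz, mul_smul]
  have oq : ∀ v, ∀ q ∈ (sY : Subgroup S), D (c • v - ε • v) (u q • a) = 0 := fun v q hq =>
    eig he (by rw [← mul_smul, hc q hq.2, mul_smul, ha, co0_smul_zsmul]) v
  have hl : ∀ k, c • lam k = ε • lam k := fun k => by
    have n : Nul z ((3 : ℤ) • lam k - (lam k + z • lam k + z • z • lam k)) := by
      unfold Nul
      simp only [co0_smul_sub, co0_smul_zsmul, fix6 hz]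
      generalize z • z • lam k = x2
      generalize z • lam k = x1
      module
    have e := span _ (oq _) fun j => ((n.g cz).sub (n.zsmul ε)).orth (fix6 hz (lam j))
    have b6 := nl k
    generalize lam k + z • lam k + z • z • lam k = m at e b6
    have b5 : (3 : ℤ) • (c • lam k - ε • lam k) = c • m - ε • m := by
      rw [co0_smul_sub, co0_smul_zsmul] at e
      generalize c • lam k = x1 at e ⊢
      generalize c • m = x2 at e ⊢
      linear_combination (norm := module) e
    have b7 := congrArg (fun v : leechLattice => sqNorm (v : Vec)) b5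
    simp only [AddSubgroup.coe_zsmul, sqNorm_smul] at b7
    have b9 : sqNorm ((ε • m : leechLattice) : Vec) = 48 := by
      rw [AddSubgroup.coe_zsmul, sqNorm_smul, pow_two, he, one_mul, b6]
    rw [AddSubgroup.coe_sub (x := c • m), sqNorm_sub, co0_norm, b6, b9] at b7
    have b8 := sqNorm_nonneg (((c • m : leechLattice) : Vec) + (ε • m : leechLattice))
    rw [sqNorm_add, co0_norm, b6, b9] at b8
    refine sub_eq_zero.1 (Subtype.ext ?_)
    by_contra e
    have := min_norm (c • lam k - ε • lam k).2 e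
    omega
  refine sub_eq_zero.1 (span _ (oq v) fun k => eig he ?_ v)
  simp only [co0_smul_add, cz', hl, co0_smul_zsmul, smul_add]

end CoA

open CoA H15 in
theorem cen_abs (u : S →* Co0) {z : Co0} (hz : z = u (mkQ 0 1)) (a b₁ b₂ : leechLattice) (lam : Fin 6 → leechLattice)
    (hA : ∀ t, u (Xa t) • a = a) (h0 : a + z • a + z • z • a = 0) (na : sqNorm (a : Vec) = 48)
    (b11 : dotInt (b₁ : Vec) (a : Vec) = 8) (b12 : dotInt (b₁ : Vec) ((z • a : leechLattice) : Vec) = 0)
    (b21 : dotInt (b₂ : Vec) (a : Vec) = 0) (b22 : dotInt (b₂ : Vec) ((z • a : leechLattice) : Vec) = 8)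
    (nl : ∀ k, sqNorm ((lam k + z • lam k + z • z • lam k : leechLattice) : Vec) = 48)
    (span : ∀ y : Vec, (∀ q ∈ (sY : Subgroup S), dotInt y ((u q • a : leechLattice) : Vec) = 0) →
      (∀ k, dotInt y ((lam k + z • lam k + z • z • lam k : leechLattice) : Vec) = 0) → y = 0)
    {c : Co0} (hc : ∀ x ∈ (sQ : Subgroup S), c * u x = u x * c) :
    ∃ w ∈ (sZ : Subgroup S), (∀ v : leechLattice, c • v = u w • v) ∨ ∀ v : leechLattice, c • v = -(u w • v) := by
  have sp : ∀ y : leechLattice, (∀ q ∈ (sY : Subgroup S), D y (u q • a) = 0) →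
      (∀ k, D y (lam k + z • lam k + z • z • lam k) = 0) → y = 0 := fun y h k => Subtype.ext (span y h k)
  have n0 : Nul z a := h0
  have cz : c * z = z * c := hz ▸ hc _ (mkQ_mem _ _)
  have a6 : z • z • a = -(a + z • a) := eq_neg_of_add_eq_zero_right h0
  have d1 : D a a = 48 := (D_self a).trans na
  have d2 : D (z • a) (z • a) = 48 := (D_g _ _ _).trans d1
  have d3 : D a (z • a) = -24 := by
    have k1 := congrArg (D (z • a)) h0
    have k2 := D_g z a (z • a)
    rw [D_add_r, D_add_r, D_zero_r, d2, k2, D_comm] at k1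
    omega
  have d4 : D (z • a) a = -24 := (D_comm _ _).trans d3
  have fz : ∀ t, u (Xa t) • z • a = z • a := fun t => by rw [← mul_smul, zc hz, mul_smul, hA]
  have fc : ∀ t, u (Xa t) • c • a = c • a := fun t => by rw [← mul_smul, ← hc _ rfl, mul_smul, hA]
  have e := key1 hz hA n0 sp (y := (72 : ℤ) • c • a - ((2 * D (c • a) a + D (c • a) (z • a)) • a +
      (D (c • a) a + 2 * D (c • a) (z • a)) • z • a))
    (((n0.g cz).zsmul _).sub (n0.lin (n0.g rfl) _ _))
    (fun t => by simp only [co0_smul_sub, co0_smul_add, co0_smul_zsmul, hA, fz, fc])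
    (by simp only [D_sub_l, D_add_l, D_smul_l, d1, d4]; ring)
    (by simp only [D_sub_l, D_add_l, D_smul_l, d2, d3]; ring)
  generalize 2 * D (c • a) a + D (c • a) (z • a) = R at e
  generalize D (c • a) a + 2 * D (c • a) (z • a) = T at e
  rw [sub_eq_zero] at e
  obtain ⟨r, hr⟩ : (8 : ℤ) ∣ D b₁ (c • a) := eight_dvd_dot b₁.2 (c • a).2
  obtain ⟨q, hq⟩ : (8 : ℤ) ∣ D b₂ (c • a) := eight_dvd_dot b₂.2 (c • a).2
  have e1 := congrArg (D b₁) e
  have e2 := congrArg (D b₂) e
  rw [D_smul_r, D_add_r, D_smul_r, D_smul_r, hr, show D b₁ a = 8 from b11, show D b₁ (z • a) = 0 from b12] at e1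
  rw [D_smul_r, D_add_r, D_smul_r, D_smul_r, hq, show D b₂ a = 0 from b21, show D b₂ (z • a) = 8 from b22] at e2
  obtain rfl : R = 72 * r := by omega
  obtain rfl : T = 72 * q := by omega
  replace e : c • a = r • a + q • z • a := by
    rw [mul_smul, mul_smul, ← smul_add] at e
    exact Subtype.ext (smul_right_injective Vec (by norm_num : (72 : ℤ) ≠ 0) (congrArg Subtype.val e))
  have n := D_g c a a
  rw [e] at n
  simp only [D_add_l, D_add_r, D_smul_l, D_smul_r, d1, d2, d3, d4] at n
  have key : ∀ w ∈ (sZ : Subgroup S), ∀ ε : ℤ, ε * ε = 1 → c • a = ε • u w • a →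
      ∀ v : leechLattice, c • v = ε • u w • v := fun w hw ε he h v => by
    have := key2 hz nl sp (c := (u w)⁻¹ * c) (fun x hx => by
      rw [mul_assoc, hc x hx, ← mul_assoc, ← mul_assoc, ← map_inv, ← map_mul, ← map_mul, m_Z (inv_mem hw)]) he
      (by rw [mul_smul, h, co0_smul_zsmul, inv_smul_smul]) v
    rwa [mul_smul, inv_smul_eq_iff, co0_smul_zsmul] at this
  have kp : ∀ w ∈ (sZ : Subgroup S), c • a = u w • a → ∀ v : leechLattice, c • v = u w • v := fun w hw h v => by
    simpa using key w hw 1 rfl (by simpa using h) v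
  have kn : ∀ w ∈ (sZ : Subgroup S), c • a = -(u w • a) → ∀ v : leechLattice, c • v = -(u w • v) :=
    fun w hw h v => by simpa using key w hw (-1) rfl (by simpa using h) v
  have m2 := mul_mem z0_mem z0_mem
  obtain ⟨l1, l2, l3, l4⟩ := eis (r := r) (q := q) (by nlinarith)
  interval_cases r <;> interval_cases q <;> first | omega | skip
  · exact ⟨_, m2, .inl (kp _ m2 (by rw [e, map_mul, ← hz, mul_smul, a6]; simp [add_comm]))⟩
  · exact ⟨_, one_mem _, .inr (kn _ (one_mem _) (by rw [e, map_one, one_smul]; simp))⟩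
  · exact ⟨_, z0_mem, .inr (kn _ z0_mem (by rw [e, ← hz]; simp))⟩
  · exact ⟨_, z0_mem, .inl (kp _ z0_mem (by rw [e, ← hz]; simp))⟩
  · exact ⟨_, one_mem _, .inl (kp _ (one_mem _) (by rw [e, map_one, one_smul]; simp))⟩
  · exact ⟨_, m2, .inr (kn _ m2 (by rw [e, map_mul, ← hz, mul_smul, a6]; simp))⟩

end Cfsg.Agent.U4T
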