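import Cfsg.Agent.U4F.U
import Cfsg.Agent.FK.TI
import Cfsg.Agent.H9.SmallIso
import Cfsg.Agent.H14.Perm

/-! Project U4T (fusion systems on a Sylow 3-subgroup of `PSU₄(3)`): definitions.  See `notes/U4T.md`. -/

set_option autoImplicit false

namespace Cfsg.Agent.U4T

open U4F FK Matrix Subgroup
open U5F (σ)
open H9 (F9)

instance bar9 : U5F.Bar F9 := ⟨H9.fintypeF9, 3, H9.card_F9⟩

/-- the Sylow subgroup -/
abbrev S : Type := US F9

/-- the prime field -/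
abbrev F : Type := ZMod 3

theorem σ_eq (x : F9) : σ x = ⟨x.re, -x.im⟩ := by
  rw [U5F.σ_apply]
  show x ^ 3 = _
  revert x
  decide

theorem im_zero {x : F9} (h : σ x = x) : x.im = 0 := by
  have : -x.im = x.im := congrArg QuadraticAlgebra.im ((σ_eq x).symm.trans h)
  revert this
  generalize x.im = y
  revert y
  decide

/-- a square root of `-1` -/
def ii : F9 := ⟨0, 1⟩

/-- a primitive element -/
def ze : F9 := ⟨1, 1⟩

/-- the element outside `sQ` -/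
def xx : S := Xb 1 (map_one σ)

/-- the automorphism of order four inverting `xx` and the centre -/
def tt : S → S := tor ii ze

/-- the image in `sQ / sZ` -/
def vv (x : S) : Fin 4 → F := ![x.a.re, x.a.im, x.c.re, x.c.im]

/-- the central coordinate -/
def ee (x : S) : F := x.d.re + 2 * (x.a.re * x.c.re + x.a.im * x.c.im)

/-- the element of `sQ` with given coordinates -/
def mkQ (v : Fin 4 → F) (e : F) : S :=
  ⟨⟨v 0, v 1⟩, 0, ⟨v 2, v 3⟩, ⟨e - 2 * (v 0 * v 2 + v 1 * v 3), 0⟩, map_zero σ, by rw [σ_eq]; simp⟩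

/-- the symplectic form -/
def bf (v w : Fin 4 → F) : F := v 0 * w 2 + v 1 * w 3 - (w 0 * v 2 + w 1 * v 3)

/-- `M` is a similitude with multiplier `m` -/
def Sim (M : Matrix (Fin 4) (Fin 4) F) (m : F) : Prop := m ≠ 0 ∧ ∀ v w, bf (M *ᵥ v) (M *ᵥ w) = m * bf v w

/-- the automorphism of `sQ` attached to a similitude -/
def qa (M : Matrix (Fin 4) (Fin 4) F) (m : F) (x : S) : S := mkQ (M *ᵥ vv x) (m * ee x)

theorem three : (3 : F) = 0 := rfl

theorem mkQ_mem (v : Fin 4 → F) (e : F) : mkQ v e ∈ (sQ : Subgroup S) := rfl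

theorem qa_mem (M : Matrix (Fin 4) (Fin 4) F) (m : F) (x : S) : qa M m x ∈ (sQ : Subgroup S) := rfl

@[simp] theorem vv_mkQ (v : Fin 4 → F) (e : F) : vv (mkQ v e) = v := by
  funext i; fin_cases i <;> rfl

@[simp] theorem ee_mkQ (v : Fin 4 → F) (e : F) : ee (mkQ v e) = e := by simp [ee, mkQ]

theorem mkQ_vv {x : S} (h : x ∈ (sQ : Subgroup S)) : mkQ (vv x) (ee x) = x := by
  have h1 := im_zero x.hd
  have h2 : x.b = 0 := h
  ext <;> simp [mkQ, vv, ee, h1, h2]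

theorem mkQ_mul (v w : Fin 4 → F) (e f : F) : mkQ v e * mkQ w f = mkQ (v + w) (e + f + bf v w) := by
  ext <;> simp [mkQ, σ_eq, bf]
  · linear_combination (v 0 * w 2 + v 1 * w 3 + w 0 * v 2 + w 1 * v 3) * three
  · ring

theorem qa_qa (M N : Matrix (Fin 4) (Fin 4) F) (m n : F) (x : S) : qa M m (qa N n x) = qa (M * N) (m * n) x := by
  simp [qa, mul_assoc]

theorem qa_one {x : S} (h : x ∈ (sQ : Subgroup S)) : qa 1 1 x = x := by simp [qa, mkQ_vv h]

/-- six similitudes with multiplier `-1` -/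
def MR : Fin 6 → Matrix (Fin 4) (Fin 4) F :=
  ![!![0, 2, 0, 0; 1, 0, 0, 0; 0, 0, 0, 1; 0, 0, 2, 0],
    !![0, 2, 0, 0; 1, 0, 0, 0; 0, 2, 0, 1; 1, 0, 2, 0],
    !![0, 0, 0, 1; 0, 0, 2, 0; 0, 1, 0, 0; 2, 0, 0, 0],
    !![1, 1, 0, 0; 1, 2, 0, 0; 0, 1, 1, 1; 2, 0, 1, 2],
    !![1, 1, 0, 0; 1, 2, 0, 0; 0, 0, 1, 1; 0, 0, 1, 2],
    !![1, 2, 0, 0; 2, 2, 0, 0; 0, 1, 1, 2; 2, 0, 2, 2]]

/-- the table of the 36 reflections of `W(E₆)` on 27 points -/
def rfT : ℕ := nat_lit 0x310620d4139460f7358b52507d1738bda88396f6150208c1ee6b16a4eb26c10759c949c16c3a4e4103dcd62f5941cd72545183178b96b41c8507b81aca92839ac49c42d6e527b1293946017680b56117316a313d8f762f6a966388b590b16a4a0e6a12506834d522c6a4e5183c3960309b9ea520c4e5c32bb9eb424a3a139acc0128b18b31bc2a8e5d7b54f326a0fc344b0a514316436281a832e8ad0d28e5e26e16a058f32906e0a659c2d35a4f4480dcd65d5601cc58bc4146a2fbdaa899b30c39ac128343c8a41ad209e70eb553a9448fbb46b550273160c1201a9618aad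279341e36dd764a011291c209e99c5ecbd2647815cd655534440f20c4135738bbb4b9ca307d88ca0d22398ad52020d4f0fb5559944d773583a25018148b11c16ce2fa7526989df56956a922016106230359941b5a4f11b989662d4941de070c412ea98bd99954910795b55cd31399c018824d57177e5939461671a8b50d026948938417ce356ad1cb8c1f33b2454a1a251066083599c6d56e25783dd43114941d8158c4506ad8be5f49aa28ab9ac2c9303996118880d6697b430d946a83cd8b525ee3148010478ceaf6ad27272df14b20a694e3410c208359ade3884e56a3dcd62cc441d4248ca106af8cdab47b2309b9125a8ad3992219020d66d7c46936d60f749075258b3148110c1ace29695e756c1498b16f720e62906008b59c567795a9183dcd62d49311033944106758bdab49ca3073dab62547410a618820d6337b569393d9172a0b6a50531c641041acdf16ad2309c9ee6b1683a9262904308359c5af3a56516bdd05258b41cc520c2206b38bd2b694e1162daf72928398a418801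

/-- the reflections as maps -/
def rf (j : Fin 36) (i : Fin 27) : Fin 27 := Fin.ofNat 27 (H14.app 5 32 rfT (27 * j.val + i.val))

theorem rf_rf : ∀ j i, rf j (rf j i) = i := by decide +kernel

/-- the reflections -/
def rp (j : Fin 36) : Equiv.Perm (Fin 27) := Function.Involutive.toPerm (rf j) (rf_rf j)

@[simp] theorem rp_apply (j : Fin 36) (i : Fin 27) : rp j i = rf j i := rfl

/-- the simple reflections (diagram `0 - 1 - 2 - 3 - 4`, `2 - 5`) -/
def pr (k : Fin 6) : Equiv.Perm (Fin 27) := rp (k.castLE (by decide))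

/-- the permutation induced by `xx` -/
def px : Equiv.Perm (Fin 27) := pr 0 * pr 1

/-- the Weyl group -/
def WW : Subgroup (Equiv.Perm (Fin 27)) := closure (Set.range pr)

/-- the root subsystems `A₃`, `A₄`, `D₄`, `D₅` containing the reflections `0, 1, 6`, as bit masks -/
def ST : List ℕ := [0x8c7, 0x11143, 0x22243, 0x244043, 0x488043, 0x2900043, 0x25000043, 0x98000043, 0x340000043, 0x119cf, 0x22ae7, 0x244cc7, 0x7400008c7, 0x4aa24b, 0x3d800004b, 0x255153, 0x2d88053, 0xbd000053, 0x499163, 0x2b44063, 0x498011143, 0x2922643, 0xb40022243, 0x365000443, 0x425244043, 0x898488043, 0x827900043, 0x254888c7, 0x9a9008c7, 0x25033343, 0x342911143, 0x98266243, 0x3406cc043, 0x254bbbef, 0x7da9119cf, 0x8bfd888d7, 0x9ab66ee7, 0x7656cccc7, 0xbd86ee24b, 0x342fdd173, 0x4bd277353, 0xb67933743]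

/-- What is used of the group `Co0`. -/
structure Amb {C L : Type} [Group C] [MulAction C L] (u : S →* C) (ω : Fin 27 → L) (r : Fin 6 → C) : Prop where
  inj : Function.Injective u
  oinj : Function.Injective ω
  fixQ : ∀ x ∈ (sQ : Subgroup S), ∀ i, u x • ω i = ω i
  actx : ∀ i, u xx • ω i = ω (px i)
  actr : ∀ k i, r k • ω i = ω (pr k i)
  rQ : ∀ k, ∀ x ∈ (sQ : Subgroup S), r k * u x * (r k)⁻¹ = u (qa (MR k) (-1) x)
  r0 : ∀ x, r 0 * u x * (r 0)⁻¹ = u (tt x)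
  st : ∀ (a b : F9) (φ : F9 ≃+* F9), a ≠ 0 → b ≠ 0 →
    ∃ g : C, (∀ x, g * u x * g⁻¹ = u (tor a b (fld φ x))) ∧ ∃ i j, g • ω i = ω j
  mu : ∃ g : C, (∀ x ∈ (sJ : Subgroup S), g * u x * g⁻¹ = u (mu x)) ∧ ∀ i, px i = i → g • ω i = ω i
  cen : ∀ c : C, (∀ x ∈ (sQ : Subgroup S), c * u x = u x * c) → (∃ i j, c • ω i = ω j) →
    ∃ z ∈ (sZ : Subgroup S), c = u z
  syl : ∀ i, ¬ 3 ^ 7 ∣ Nat.card (MulAction.stabilizer C (ω i))

/-- the normalizer of `sQ` preserving the 27 points -/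
def N0 {C : Type} [Group C] (u : S →* C) (r : Fin 6 → C) : Subgroup C := sQ.map u ⊔ closure (Set.range r)

/-- the elements of `N0` inducing on `sQ` an automorphism of the fusion system of `v` -/
def Yh {C : Type} {G : Type*} [Group C] [Group G] (u : S →* C) (r : Fin 6 → C) (v : S →* G) : Subgroup C where
  carrier := {g | g ∈ N0 u r ∧ ∃ f, Fa v sQ f ∧ ∀ x ∈ (sQ : Subgroup S), g * u x * g⁻¹ = u (f x)}
  one_mem' := ⟨one_mem _, _, Fa.id v sQ, fun x _ => by simp⟩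
  mul_mem' := fun {a b} ⟨ha, f, hf, e⟩ ⟨hb, g, hg, e'⟩ => ⟨mul_mem ha hb, _, hf.comp hg, fun x hx => by
    rw [← e _ (hg.au.mem x hx), ← e' x hx]; group⟩
  inv_mem' := fun {a} ⟨ha, f, hf, e⟩ => by
    obtain ⟨g, hg, -, h2⟩ := hf.exists_inv
    refine ⟨inv_mem ha, g, hg, fun x hx => ?_⟩
    have := e _ (hg.au.mem x hx)
    rw [h2 x hx] at this
    rw [← this]; group

/-- the permutations of the 27 points induced by a subgroup -/
def Pm {C L : Type} [Group C] [MulAction C L] (ω : Fin 27 → L) (Y : Subgroup C) :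
    Subgroup (Equiv.Perm (Fin 27)) where
  carrier := {π | ∃ g ∈ Y, ∀ i, g • ω i = ω (π i)}
  one_mem' := ⟨1, one_mem _, fun i => one_smul _ _⟩
  mul_mem' := fun {a b} ⟨g, hg, e⟩ ⟨k, hk, e'⟩ => ⟨g * k, mul_mem hg hk, fun i => by
    rw [mul_smul, e', e]; rfl⟩
  inv_mem' := fun {a} ⟨g, hg, e⟩ => ⟨g⁻¹, inv_mem hg, fun i => by
    rw [inv_smul_eq_iff, e]; simp⟩

/-- the elements acting on the points of `P` like an element of `Y` -/
def Gp {C L : Type} [Group C] [MulAction C L] (ω : Fin 27 → L) (Y : Subgroup C) (P : Set (Fin 27))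
    (h : ∀ y ∈ Y, ∀ i ∈ P, ∃ j ∈ P, y • ω i = ω j) : Subgroup C where
  carrier := {g | ∃ y ∈ Y, ∀ i ∈ P, g • ω i = y • ω i}
  one_mem' := ⟨1, one_mem _, fun _ _ => rfl⟩
  mul_mem' := fun {a b} ⟨y, hy, e⟩ ⟨z, hz, e'⟩ => ⟨y * z, mul_mem hy hz, fun i hi => by
    obtain ⟨j, hj, k⟩ := h z hz i hi
    rw [mul_smul, mul_smul, e' i hi, k, e j hj]⟩
  inv_mem' := fun {a} ⟨y, hy, e⟩ => ⟨y⁻¹, inv_mem hy, fun i hi => by
    obtain ⟨j, hj, k⟩ := h y⁻¹ (inv_mem hy) i hi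
    rw [k, inv_smul_eq_iff, e j hj, ← k, smul_inv_smul]⟩

/-- the hypotheses on the fusion system -/
structure Hy {G : Type*} [Group G] (v : S →* G) : Prop where
  two : Two 3 v sQ sJ
  std : ∀ f, Fa v ⊤ f → ∃ (s : S) (a b : F9) (φ : F9 ≃+* F9), a ≠ 0 ∧ b ≠ 0 ∧
    ∀ x, f x = s * tor a b (fld φ x) * s⁻¹
  tt : In v ⊤ tt
  ess : ∃ f, Fa v sQ f ∧ ¬ Ext v sQ f

end Cfsg.Agent.U4T
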