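import Cfsg.Agent.U4T.Defs

/-! Project U4T: generators of the group of symplectic similitudes.  See `notes/U4T.md`. -/

set_option autoImplicit false
set_option maxRecDepth 100000
set_option synthInstance.maxSize 4096
set_option linter.unusedSimpArgs false

namespace Cfsg.Agent.U4T

open U4F FK Matrix Subgroup
open RFS (Au)
open SR3 (nm ce)
open H9 (F9)

namespace Gen

def tT : ℕ := nat_lit 0xc2f98293c70a89b2a8234e3910ca7927808fc92ad62104885c045d2cd298c26714630062c761cd8f4d0c09e7c5da488a2d437068e6995a18eba26c280e56fd9ca2c9611140f400a1e3860b20446896ef1db970f5f3a6cb99b260bda3562b4e214078ea2467cd93305ca943268b128116242831a3c37f2674d972a7d099212aa529d32b58a12010c141820e2020038f02b09465643124d9cd189a3083eda00f52e4122a0596c930ca10b56f821b4b1471e701dacc24050bb2abe79150fc52a880cebd34c64370c82594691c6a45d38ba782411ba00ca69753107207615ad034b239146f842f94513411675c026330b288634fba08d279957188227a1d749269600a38dc0b096553c21879c836738c2a8a3d0bc0cb641248fc49b6c003ba3846226312d6a208dd60e82ccac87a7c0c7522e730246662e10ece8f8491a16928c2b85431fcf624df200515389210d29a9abc33936ac6c06a5e52106da3281541914787803462b9ab25ecd82d9f324d09b2a74b9064b13345ca182a495a84ab14a6549d24687023c4831613f20345111c2c78c1288f9c4680ea13c6deba6ef9db878e5b0708044050418180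

def w0 : List (List (Fin 6)) := [[], [], [0,0], [0,0,0], [4,0,0], [4,0], [0], [0,4], [4], [0,2], [1,2], [1,0], [5,2,1], [3,0,1], [1,5,0], [5,3], [0,3], [0,5], [2,0], [1,0,0,0], [0,1], [3,5], [5,0], [3,0], [3,5,2], [5,1,0], [0,3,1], [2], [5,2,1,0], [5,3,0], [1,0,0], [5,1], [5], [1,2,0], [3,0,1,0], [3], [2,5], [4,5,0], [3,0,4,1], [3,2,0], [4,0,1], [3,1], [3,0,4], [5,0,1], [1,4,0], [2,3], [4,5,1], [3,4], [5,3,0,1], [3,1,0], [4,1], [5,4], [4,0,1,0], [5,0,1,0], [2,0,0], [3,5,0], [3,5,2,0], [0,1,0], [3,0,0], [0,3,1,0], [1], [5,0,0], [1,5], [4,2], [3,5,1], [3,2], [4,5], [0,5,1,0], [0,4,1,0], [3,5,0,1], [1,4], [1,3,0], [2,3,0], [3,4,0,1], [5,2], [3,4,0], [4,1,0], [0,5,1], [3,0,2], [1,3], [0,4,1]]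

def w1 : List (List (Fin 6)) := [[], [], [], [], [], [], [], [], [], [], [2,0,1,2], [2,1,0,2], [2,3,0,4,1,2], [2,3,4,1,2,0], [2,3,4,2], [2,4,3,1,2,0], [2,4,3,2], [4,1,3,2,5,0], [5,3,4,3,1], [5,3,4,3,2,1,0], [2,3,5,4,3,2,0], [2,4,5,1,2], [2,5,4,2,0], [5,4,1,2,3], [2,5,3,2,0], [2,3,5,0,1,2,0], [2,3,5,1,2], [], [], [], [], [], [], [], [], [], [3,1,2,5,1,2,3,4,2,0], [0,3,1,2,5,1,2,3,4,0], [3,1,2,5,0,1,2,0,1,0], [3,1,2,5,1,0], [0,3,1,2,5,3,1,0], [1,2,0,3,1,2,5,0,1,0], [3,1,2,5,4,1,2,3,2,0], [1,3,2,5,2,1], [3,0,1,2,5,3,2,1], [5,2,1,3,2,5,2,3,0], [5,2,3,0,1,2,5,2,0], [5,2,1,3,2,5,3,4,0], [1,2,3,4,2,3,0,1,0], [3,0,4,1,2,3,0,1,0], [4,3,2,5,4,3,2,1,0], [3,0,4,1,2,3,2,0,1], [4,3,2,5,4,3,1], [1,2,3,4,2,3,2,0,1], [], [], [], [], [], [], [], [], [], [1,2,5,2,3,0,1,2,0,1], [3,4,2,3,1,2,5,4,1,0], [5,2,3,4,1,2,0,1], [0,5,1,2,3,1], [5,2,3,0,4,1], [1,2,5,2,3,1], [5,2,3,4,2,0,1,0], [1,2,5,2,3,2,1,0], [0,5,1,2,3,2,1,0],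 [2,3,0,1,2,5,1,2,3], [3,2,5,4,0,1,2,0,1], [3,2,1,5,2,3,2], [3,2,1,5,2,3,1,2,0], [2,3,1,2,5,3,4,0,1], [3,2,5,4,1], [3,2,5,4,2,1,0], [3,2,5,1,2,3,0,1,2], [3,2,5,1,2,3,4,3,2]]

def w2 : List (List (Fin 6)) := [[], [], [], [], [], [], [3,2,3,5,4,1,2,3,0,1,2,5,1,2,3,0,1,0], [], [], [], [], [], [], [], [], [], [], [], [], [], [], [], [], [], [], [], [], [1,4,2,3,0,1,2,5,2,3,4,2], [], [], [4,0,3,1,2,5,2,3,4,1,2,1], [], [], [4,3,1,2,5,2,3,4,0,1,2,0], [], [], [], [], [], [], [], [], [], [], [], [], [], [], [], [], [], [], [], [], [5,4,3,2,5,3,4,1,2,0,1,0], [], [], [2,4,3,0,1,2,5,2,3,4,0,1], [], [], [2,4,3,1,2,5,2,3,4,2,1,0], [], [], [], [], [], [], [], [], [], [], [], [], [], [], [], [], [], [], [], []]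

def w3 : List (List (Fin 6)) := [[], [], [], [], [], [], [], [], [], [], [], [], [], [], [], [], [], [], [], [], [], [], [], [], [], [], [], [], [], [], [2,5,2,3,4,1,2,3,0,1,2,5,0,1,2,3,4,1,2,3,2,0,1,0], [], [], [3,4,1,2,3,0,1,2,5,2,3,4,1,2,3,0,1,2,5,4,3,0,1,2], [], [], [], [], [], [], [], [], [], [], [], [], [], [], [], [], [], [], [], [], [], [], [], [], [], [], [], [], [], [], [], [], [], [], [], [], [], [], [], [], [], [], [], [], [], [], []]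

/-- the generators on encoded vectors -/
def tb (k : Fin 6) (n : ℕ) : ℕ := Nat.land (Nat.shiftRight tT (Nat.mul 7 (Nat.add (Nat.mul 81 k.val) n))) 127

/-- the vector with a given code -/
def dc (n : ℕ) : Fin 4 → F := ![(n : F), ((n / 3 : ℕ) : F), ((n / 9 : ℕ) : F), ((n / 27 : ℕ) : F)]

/-- a word on encoded vectors -/
def ev (l : List (Fin 6)) (n : ℕ) : ℕ := l.foldr tb n

/-- the product of a word -/
abbrev W (l : List (Fin 6)) : Matrix (Fin 4) (Fin 4) F := (l.map MR).prod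

theorem tb_ok : ∀ k : Fin 6, ∀ n < 81, tb k n < 81 ∧ MR k *ᵥ dc n = dc (tb k n) := by decide +kernel

theorem dc_surj (v : Fin 4 → F) : ∃ n < 81, dc n = v := by
  have : ∀ a b c d : F, a.val + 3 * b.val + 9 * c.val + 27 * d.val < 81 ∧
      dc (a.val + 3 * b.val + 9 * c.val + 27 * d.val) = ![a, b, c, d] := by decide +kernel
  refine ⟨_, (this (v 0) (v 1) (v 2) (v 3)).1, (this _ _ _ _).2.trans ?_⟩
  funext i
  fin_cases i <;> rfl

theorem ev_ok (l : List (Fin 6)) {n : ℕ} (h : n < 81) : ev l n < 81 ∧ W l *ᵥ dc n = dc (ev l n) := by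
  induction l with
  | nil => exact ⟨h, one_mulVec _⟩
  | cons k l ih =>
    refine ⟨(tb_ok k _ ih.1).1, ?_⟩
    rw [W, List.map_cons, List.prod_cons, ← mulVec_mulVec, ih.2, (tb_ok k _ ih.1).2]
    rfl

/-- the Gram matrix -/
def J : Matrix (Fin 4) (Fin 4) F := !![0, 0, 1, 0; 0, 0, 0, 1; -1, 0, 0, 0; 0, -1, 0, 0]

theorem bf_eq (v w : Fin 4 → F) : bf v w = v ⬝ᵥ J *ᵥ w := by
  simp [bf, J, mulVec, dotProduct, Fin.sum_univ_four]
  ring

theorem sim_MR (k : Fin 6) : Sim (MR k) (-1) := by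
  have e : (MR k)ᵀ * (J * MR k) = -J := (by decide +kernel : ∀ k, (MR k)ᵀ * (J * MR k) = -J) k
  refine ⟨by decide, fun v w => ?_⟩
  rw [bf_eq, bf_eq, mulVec_mulVec, ← vecMul_transpose, ← dotProduct_mulVec, mulVec_mulVec, e, neg_mulVec,
    dotProduct_neg, neg_one_mul]

theorem sim_mul {A B : Matrix (Fin 4) (Fin 4) F} {a b : F} (hA : Sim A a) (hB : Sim B b) : Sim (A * B) (a * b) :=
  haveI : Fact (Nat.Prime 3) := ⟨Nat.prime_three⟩
  ⟨mul_ne_zero hA.1 hB.1, fun v w => by rw [← mulVec_mulVec, ← mulVec_mulVec, hA.2, hB.2, mul_assoc]⟩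

theorem sim_W (l : List (Fin 6)) : Sim (W l) ((-1) ^ l.length) := by
  induction l with
  | nil => exact ⟨by decide, fun v w => by simp [W]⟩
  | cons k l ih =>
    rw [W, List.map_cons, List.prod_cons, List.length_cons, pow_succ']
    exact sim_mul (sim_MR k) ih

theorem red (l : List (Fin 6)) {M : Matrix (Fin 4) (Fin 4) F} (h : ∃ l', W l' = W l * M) : ∃ l', W l' = M := by
  induction l with
  | nil => simpa [W] using h
  | cons k l ih =>
    obtain ⟨l', e⟩ := h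
    refine ih ⟨k :: k :: k :: k :: k :: k :: k :: l', ?_⟩
    have e8 : MR k * (MR k * (MR k * (MR k * (MR k * (MR k * (MR k * MR k)))))) = 1 :=
      by
        have e2 : ∀ k, MR k * MR k = -1 := by decide +kernel
        simp only [← mul_assoc, e2]
        simp only [mul_assoc, e2, neg_mul, one_mul, mul_neg, mul_one, neg_neg]
    simp only [W, List.map_cons, List.prod_cons] at e ⊢
    rw [e]
    calc _ = MR k * (MR k * (MR k * (MR k * (MR k * (MR k * (MR k * MR k)))))) * ((l.map MR).prod * M) := by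
          simp only [mul_assoc]
      _ = _ := by rw [e8, one_mul]

theorem s0 : ∀ n < 81, n ≠ 0 → ev (w0.getD n []) n = 1 := by decide +kernel

theorem s1 : ∀ n < 81, bf (dc 1) (dc n) ≠ 0 → ev (w1.getD n []) 1 = 1 ∧ ev (w1.getD n []) n = 9 := by
  decide +kernel

theorem s2 : ∀ n < 81, n ≠ 0 → bf (dc 1) (dc n) = 0 → bf (dc 9) (dc n) = 0 →
    ev (w2.getD n []) 1 = 1 ∧ ev (w2.getD n []) 9 = 9 ∧ ev (w2.getD n []) n = 3 := by decide +kernel

theorem s3 : ∀ n < 81, bf (dc 1) (dc n) = 0 → bf (dc 9) (dc n) = 0 → bf (dc 3) (dc n) = 1 →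
    ev (w3.getD n []) 1 = 1 ∧ ev (w3.getD n []) 9 = 9 ∧ ev (w3.getD n []) 3 = 3 ∧
      ev (w3.getD n []) n = 27 := by decide +kernel

variable {M : Matrix (Fin 4) (Fin 4) F} {m : F}

theorem mv (l : List (Fin 6)) {a n b : ℕ} (hn : n < 81) (e : M *ᵥ dc a = dc n) (k : ev l n = b) :
    (W l * M) *ᵥ dc a = dc b := by
  rw [← mulVec_mulVec, e, (ev_ok l hn).2, k]

theorem l4 (h0 : M *ᵥ dc 1 = dc 1) (h2 : M *ᵥ dc 9 = dc 9) (h1 : M *ᵥ dc 3 = dc 3) (h3 : M *ᵥ dc 27 = dc 27) :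
    M = 1 := by
  have d0 : dc 1 = Pi.single 0 1 := by decide +kernel
  have d1 : dc 3 = Pi.single 1 1 := by decide +kernel
  have d2 : dc 9 = Pi.single 2 1 := by decide +kernel
  have d3 : dc 27 = Pi.single 3 1 := by decide +kernel
  have k : ∀ j : Fin 4, M *ᵥ Pi.single j 1 = Pi.single j 1 := fun j => by
    fin_cases j
    · exact d0 ▸ h0
    · exact d1 ▸ h1
    · exact d2 ▸ h2
    · exact d3 ▸ h3
  ext i j
  have := congrFun (k j) i
  rw [mulVec_single_one] at this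
  rw [one_apply, ← Pi.single_apply]
  exact this

theorem mone (h : Sim M m) (h0 : M *ᵥ dc 1 = dc 1) (h2 : M *ᵥ dc 9 = dc 9) : m = 1 := by
  have := h.2 (dc 1) (dc 9)
  rw [h0, h2, (by decide +kernel : bf (dc 1) (dc 9) = 1), mul_one] at this
  exact this.symm

theorem l3 (h : Sim M m) (h0 : M *ᵥ dc 1 = dc 1) (h2 : M *ᵥ dc 9 = dc 9) (h1 : M *ᵥ dc 3 = dc 3) :
    ∃ l, W l = M := by
  obtain rfl := mone h h0 h2
  obtain ⟨n, hn, e⟩ := dc_surj (M *ᵥ dc 27)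
  obtain ⟨a, b, c, d⟩ := s3 n hn (by rw [e, ← h0, h.2]; decide +kernel) (by rw [e, ← h2, h.2]; decide +kernel)
    (by rw [e, ← h1, h.2]; decide +kernel)
  exact red (w3.getD n []) ⟨[], (l4 (mv _ (by decide) h0 a) (mv _ (by decide) h2 b) (mv _ (by decide) h1 c)
    (mv _ hn e.symm d)).symm⟩

theorem l2 (h : Sim M m) (h0 : M *ᵥ dc 1 = dc 1) (h2 : M *ᵥ dc 9 = dc 9) : ∃ l, W l = M := by
  obtain rfl := mone h h0 h2
  obtain ⟨n, hn, e⟩ := dc_surj (M *ᵥ dc 3)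
  have n0 : n ≠ 0 := by
    rintro rfl
    have := h.2 (dc 3) (dc 27)
    rw [← e, (by decide +kernel : bf (dc 3) (dc 27) = 1)] at this
    simp [bf, dc] at this
  obtain ⟨a, b, c⟩ := s2 n hn n0 (by rw [e, ← h0, h.2]; decide +kernel) (by rw [e, ← h2, h.2]; decide +kernel)
  exact red (w2.getD n []) (l3 (sim_mul (sim_W _) h) (mv _ (by decide) h0 a) (mv _ (by decide) h2 b)
    (mv _ hn e.symm c))

theorem l1 (h : Sim M m) (h0 : M *ᵥ dc 1 = dc 1) : ∃ l, W l = M := by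
  obtain ⟨n, hn, e⟩ := dc_surj (M *ᵥ dc 9)
  obtain ⟨a, b⟩ := s1 n hn (by
    rw [e, ← h0, h.2, (by decide +kernel : bf (dc 1) (dc 9) = 1), mul_one]; exact h.1)
  exact red (w1.getD n []) (l2 (sim_mul (sim_W _) h) (mv _ (by decide) h0 a) (mv _ hn e.symm b))

theorem l0 (h : Sim M m) : ∃ l, W l = M := by
  obtain ⟨n, hn, e⟩ := dc_surj (M *ᵥ dc 1)
  have n0 : n ≠ 0 := by
    rintro rfl
    have := h.2 (dc 1) (dc 9)
    rw [← e, (by decide +kernel : bf (dc 1) (dc 9) = 1), mul_one] at this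
    exact h.1 (by rw [← this]; simp [bf, dc])
  exact red (w0.getD n []) (l1 (sim_mul (sim_W _) h) (mv _ hn e.symm (s0 n hn n0)))

end Gen

theorem gen_sim {M : Matrix (Fin 4) (Fin 4) F} {m : F} (h : Sim M m) :
    ∃ l : List (Fin 6), (l.map MR).prod = M ∧ (-1 : F) ^ l.length = m := by
  obtain ⟨l, rfl⟩ := Gen.l0 h
  refine ⟨l, rfl, ?_⟩
  have := ((Gen.sim_W l).2 (Gen.dc 1) (Gen.dc 9)).symm.trans (h.2 (Gen.dc 1) (Gen.dc 9))
  rwa [(by decide +kernel : bf (Gen.dc 1) (Gen.dc 9) = 1), mul_one, mul_one] at this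

end Cfsg.Agent.U4T
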