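import Cfsg.Agent.U4T.Defs

/-! Project U4T: the kernel of the action on 27 points.  See `notes/U4T.md`. -/

set_option autoImplicit false

namespace Cfsg.Agent.U4T

open U4F FK Matrix Subgroup
open RFS (Au)
open SR3 (nm ce)
open H9 (F9)

namespace Ker

/-- a similitude over each reflection -/
def MT (j : Fin 36) : Matrix (Fin 4) (Fin 4) F :=
  Matrix.of fun a b => Fin.ofNat 3 (H14.app 2 4 (nat_lit 0xa0900a09a1980a0950601586911828451148214442a416828214188101481180220420486264254a01881280a15819891204204492942a45a11828491244118451a81686426415829214188582941a81811828419050294541a82642512824461080224491580905a0901a89905019851080128422440108a2940a099050090592540905020420402148010820400108) (16 * j.val + 4 * a.val + b.val))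

/-- conjugation of the reflections -/
def cj (k : Fin 6) (j : Fin 36) : Fin 36 :=
  Fin.ofNat 36 (H14.app 6 64 (nat_lit 0x8a38607de75c6da55849064e3172d62141d344a08f3461440c90408e286075e7da61c59b4d940f5cc4555083522c324e1c61442820408e27dc85b76079a6585d155435258b24e4c74043c230614a0c80408e18a07de7595d67136da5546124503ca34c18e14304b2442021c08e282171e69f6dd6585165573ce4504d22482ca34c0801440c70468e285e7e075b7185da65349459534c3ce4501ca2482c11440c2180) (36 * k.val + j.val))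

/-- the signs -/
def sg (k : Fin 6) (j : Fin 36) : F :=
  Fin.ofNat 3 (H14.app 2 4 (nat_lit 0x5aaaa655555565669aaa655555595999a96aa5596a9a656555695a96a9555a6aaa6a5a96a5659a695a55a55a95a999555655a56a5aa5) (36 * k.val + j.val))

theorem sg_sq : ∀ k j, sg k j * sg k j = 1 := by decide +kernel

theorem mt_cj : ∀ k j a b, (MR k * MT j) a b = sg k j * (MT (cj k j) * MR k) a b := by decide +kernel

theorem rf_cj : ∀ (k : Fin 6) j i, rf (k.castLE (by decide)) (rf j i) = rf (cj k j) (rf (k.castLE (by decide)) i) := by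
  decide +kernel

theorem rf_inj : ∀ j j' : Fin 36, (∀ i, rf j i = rf j' i) → j = j' := by decide +kernel

theorem mt_mr : ∀ k : Fin 6, MT (k.castLE (by decide)) = MR k := by decide +kernel

theorem rel (l : List (Fin 6)) (j : Fin 36) : ∃ j', (l.map pr).prod * rp j = rp j' * (l.map pr).prod ∧
    ∃ s : F, s * s = 1 ∧ (l.map MR).prod * MT j = s • (MT j' * (l.map MR).prod) := by
  induction l with
  | nil => exact ⟨j, by simp, 1, by simp, by simp⟩
  | cons k l ih =>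
    obtain ⟨j', h1, s, hs, h2⟩ := ih
    have e1 : pr k * rp j' = rp (cj k j') * pr k := Equiv.ext fun i => rf_cj k j' i
    have e2 : MR k * MT j' = sg k j' • (MT (cj k j') * MR k) := Matrix.ext fun a b => mt_cj k j' a b
    refine ⟨cj k j', ?_, s * sg k j', ?_, ?_⟩
    · simp only [List.map_cons, List.prod_cons]
      rw [mul_assoc, h1, ← mul_assoc, e1, mul_assoc]
    · rw [mul_mul_mul_comm, hs, sg_sq, one_mul]
    · simp only [List.map_cons, List.prod_cons]
      rw [mul_assoc, h2, mul_smul_comm, ← mul_assoc, e2, smul_mul_assoc, smul_smul, mul_assoc]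

theorem bf_MR : ∀ k (v w : Fin 4 → F), bf (MR k *ᵥ v) (MR k *ᵥ w) = -bf v w := by
  intro k v w
  fin_cases k <;> simp [bf, MR, Matrix.mulVec, dotProduct, Fin.sum_univ_four] <;> ring_nf <;>
    simp [show (4 : F) = 1 from rfl, show (2 : F) = -1 from rfl, show (3 : F) = 0 from rfl,
      show (5 : F) = -1 from rfl, show (6 : F) = 0 from rfl, show (8 : F) = -1 from rfl] <;> ring

theorem bf_W (l : List (Fin 6)) (v w : Fin 4 → F) :
    bf ((l.map MR).prod *ᵥ v) ((l.map MR).prod *ᵥ w) = (-1) ^ l.length * bf v w := by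
  induction l with
  | nil => simp
  | cons k l ih =>
    simp only [List.map_cons, List.prod_cons, List.length_cons, ← Matrix.mulVec_mulVec]
    rw [bf_MR, ih]; ring

/-- elements of order three -/
def Z : Fin 5 → Matrix (Fin 4) (Fin 4) F :=
  ![!![1, 0, 0, 0; 0, 1, 0, 0; 1, 0, 1, 0; 0, 1, 0, 1], !![2, 0, 1, 0; 0, 2, 0, 1; 2, 0, 0, 0; 0, 2, 0, 0],
    !![0, 0, 2, 1; 0, 0, 1, 1; 2, 1, 2, 0; 1, 1, 0, 2], !![1, 0, 0, 0; 0, 1, 0, 0; 1, 2, 1, 0; 2, 2, 0, 1],
    !![0, 0, 1, 1; 0, 0, 1, 2; 1, 1, 2, 0; 1, 2, 0, 2]]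

theorem Z_eq : ∀ t : Fin 5, ∃ a b, Z t = MR a * MR b * (MR a * MR b) := by
  intro t
  fin_cases t
  · exact ⟨0, 1, by decide +kernel⟩
  · exact ⟨1, 2, by decide +kernel⟩
  · exact ⟨2, 3, by decide +kernel⟩
  · exact ⟨3, 4, by decide +kernel⟩
  · exact ⟨2, 5, by decide +kernel⟩

theorem fx : ∀ a b c d : F, (∀ i, ((Z 1 * Z 2 * Z 4) *ᵥ ![a, b, c, d]) i = ![a, b, c, d] i) →
    ∀ i, ![a, b, c, d] i = (a • ![1, 2, 2, 0] : Fin 4 → F) i := by decide +kernel

theorem scal {M : Matrix (Fin 4) (Fin 4) F} (h : ∀ k, ∃ s : F, s * s = 1 ∧ M * MR k = s • (MR k * M)) :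
    ∃ c : F, M = c • 1 := by
  have cz : ∀ t, M * Z t = Z t * M := fun t => by
    obtain ⟨a, b, e⟩ := Z_eq t
    obtain ⟨s, hs, h1⟩ := h a
    obtain ⟨r, hr, h2⟩ := h b
    have h3 : M * (MR a * MR b) = (s * r) • (MR a * MR b * M) := by
      rw [← mul_assoc, h1, smul_mul_assoc, mul_assoc, h2, mul_smul_comm, smul_smul, mul_assoc]
    rw [e, ← mul_assoc, h3, smul_mul_assoc, mul_assoc, h3,
      mul_smul_comm, smul_smul, mul_mul_mul_comm, hs, hr, one_mul, one_smul, ← mul_assoc]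
  have c3 : M * (Z 1 * Z 2 * Z 4) = Z 1 * Z 2 * Z 4 * M :=
    ((Commute.mul_right (Commute.mul_right (cz 1) (cz 2)) (cz 4)) : Commute _ _).eq
  have w0 : (Z 1 * Z 2 * Z 4) *ᵥ ![1, 2, 2, 0] = ![1, 2, 2, 0] := by decide +kernel
  obtain ⟨v, hv⟩ : ∃ v, v = M *ᵥ ![1, 2, 2, 0] := ⟨_, rfl⟩
  have ev : v = ![v 0, v 1, v 2, v 3] := by funext i; fin_cases i <;> rfl
  have h1 : (Z 1 * Z 2 * Z 4) *ᵥ v = v := by rw [hv, Matrix.mulVec_mulVec, ← c3, ← Matrix.mulVec_mulVec, w0]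
  have h2 : M *ᵥ ![1, 2, 2, 0] = v 0 • ![1, 2, 2, 0] := by
    rw [← hv]
    nth_rewrite 1 [ev]
    exact funext (fx _ _ _ _ (by rw [← ev]; exact congrFun h1))
  have st : ∀ t x, M *ᵥ x = v 0 • x → M *ᵥ (Z t *ᵥ x) = v 0 • (Z t *ᵥ x) := fun t x hx => by
    rw [Matrix.mulVec_mulVec, cz, ← Matrix.mulVec_mulVec, hx, Matrix.mulVec_smul]
  have b : ∀ i : Fin 4, M *ᵥ Pi.single i 1 = v 0 • Pi.single i 1 := fun i => by
    fin_cases i
    · have := (st 2 _ (st 3 _ (st 1 _ (st 0 _ h2))))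
      rwa [show (Z 2 *ᵥ (Z 3 *ᵥ (Z 1 *ᵥ (Z 0 *ᵥ ![1, 2, 2, 0])))) = Pi.single 0 1 by decide +kernel] at this
    · have := (st 0 _ (st 4 _ (st 1 _ h2)))
      rwa [show (Z 0 *ᵥ (Z 4 *ᵥ (Z 1 *ᵥ ![1, 2, 2, 0]))) = Pi.single 1 1 by decide +kernel] at this
    · have := (st 2 _ (st 3 _ (st 3 _ h2)))
      rwa [show (Z 2 *ᵥ (Z 3 *ᵥ (Z 3 *ᵥ ![1, 2, 2, 0]))) = Pi.single 2 1 by decide +kernel] at this
    · have := (st 4 _ (st 4 _ (st 0 _ h2)))
      rwa [show (Z 4 *ᵥ (Z 4 *ᵥ (Z 0 *ᵥ ![1, 2, 2, 0]))) = Pi.single 3 1 by decide +kernel] at this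
  refine ⟨v 0, Matrix.ext fun i j => ?_⟩
  have := congrFun (b j) i
  rw [Matrix.mulVec_single_one] at this
  rw [show M i j = Mᵀ j i from rfl]
  refine this.trans ?_
  simp [Matrix.one_apply, Pi.single_apply]

end Ker

open Ker in
theorem ker_W {l : List (Fin 6)} (h : (l.map pr).prod = 1) :
    ((l.map MR).prod = 1 ∨ (l.map MR).prod = -1) ∧ (-1 : F) ^ l.length = 1 := by
  obtain ⟨c, hc⟩ := scal (M := (l.map MR).prod) fun k => by
    obtain ⟨j', h1, s, hs, h2⟩ := rel l (k.castLE (by decide))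
    rw [h, one_mul, mul_one] at h1
    rw [← rf_inj _ _ fun i => congrArg (fun π : Equiv.Perm (Fin 27) => π i) h1,
      mt_mr k] at h2
    exact ⟨s, hs, h2⟩
  have b := bf_W l ![1, 0, 0, 0] ![0, 0, 1, 0]
  rw [hc] at b ⊢
  have b' : c * c = (-1) ^ l.length := by simpa [bf, Matrix.smul_mulVec] using b
  have n : ((-1 : F) ^ l.length) ≠ 0 := by
    rcases neg_one_pow_eq_or F l.length with e | e <;> rw [e] <;> decide
  rw [← b'] at n ⊢
  have : ∀ c : F, c * c ≠ 0 → c = 1 ∨ c = -1 := by decide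
  rcases this c n with rfl | rfl <;> simp

end Cfsg.Agent.U4T
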