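import Cfsg.Agent.U4T.AutQ
import Cfsg.Agent.U4T.Gen
import Cfsg.Agent.U4T.Ker

/-! Project U4T: the normalizer of the extraspecial group.  See `notes/U4T.md`. -/

set_option autoImplicit false
set_option linter.unusedSectionVars false

namespace Cfsg.Agent.U4T

open U4F FK Matrix Subgroup
open RFS (Au)
open SR3 (nm ce)
open H9 (F9)

variable {C L : Type} [Group C] [Finite C] [MulAction C L] {u : S →* C} {ω : Fin 27 → L} {r : Fin 6 → C}

namespace NQ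

/-- words in the six generators -/
def Wd (r : Fin 6 → C) (l : List (Fin 6)) : C := (l.map r).prod

theorem Wd_cons (k : Fin 6) (l : List (Fin 6)) : Wd r (k :: l) = r k * Wd r l := by
  rw [Wd, List.map_cons, List.prod_cons, Wd]

theorem word_Q (h : Amb u ω r) (l : List (Fin 6)) {x : S} (hx : x ∈ (sQ : Subgroup S)) :
    Wd r l * u x * (Wd r l)⁻¹ = u (qa (l.map MR).prod ((-1) ^ l.length) x) := by
  induction l with
  | nil => simp [Wd, qa_one hx]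
  | cons k l ih =>
    rw [List.map_cons, List.prod_cons, List.length_cons, pow_succ', ← qa_qa, ← h.rQ k _ (qa_mem _ _ _), ← ih,
      Wd_cons]
    group

theorem word_ω (h : Amb u ω r) (l : List (Fin 6)) (i : Fin 27) : Wd r l • ω i = ω ((l.map pr).prod i) := by
  induction l with
  | nil => simp [Wd]
  | cons k l ih => rw [Wd_cons, mul_smul, ih, h.actr, List.map_cons, List.prod_cons, Equiv.Perm.mul_apply]

theorem cl_nm (h : Amb u ω r) : closure (Set.range r) ≤ nm (sQ.map u) := by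
  rw [closure_le]
  rintro _ ⟨k, rfl⟩
  refine SR3.mem_nm_of_conj ?_
  rintro _ ⟨x, hx, rfl⟩
  exact ⟨_, qa_mem _ _ _, (h.rQ k x hx).symm⟩

theorem cl_word {g : C} (hg : g ∈ closure (Set.range r)) : ∃ l, g = Wd r l := by
  have : g ∈ Submonoid.closure (Set.range r) := by rw [← closure_toSubmonoid_of_finite]; exact hg
  refine Submonoid.closure_induction_left (motive := fun g _ => ∃ l, g = Wd r l) ⟨[], rfl⟩ ?_ this
  rintro _ ⟨k, rfl⟩ _ _ ⟨l, rfl⟩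
  exact ⟨k :: l, (Wd_cons k l).symm⟩

theorem Wd_mem (l : List (Fin 6)) : Wd r l ∈ N0 u r := by
  induction l with
  | nil => exact one_mem _
  | cons k l ih => rw [Wd_cons]; exact mul_mem (mem_sup_right (subset_closure ⟨k, rfl⟩)) ih

theorem Q_mem {s : S} (hs : s ∈ (sQ : Subgroup S)) : u s ∈ N0 u r := mem_sup_left ⟨s, hs, rfl⟩

theorem dec (h : Amb u ω r) {g : C} (hg : g ∈ N0 u r) : ∃ s ∈ (sQ : Subgroup S), ∃ l, g = u s * Wd r l := by
  obtain ⟨_, ⟨s, hs, rfl⟩, b, hb, rfl⟩ := (SR3.mem_sup_of_nm' (cl_nm h)).1 hg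
  obtain ⟨l, rfl⟩ := cl_word hb
  exact ⟨s, hs, l, rfl⟩

theorem Z_Q {z : S} (hz : z ∈ (sZ : Subgroup S)) : z ∈ (sQ : Subgroup S) := hz.2.1

theorem mr0 : ([0, 0].map MR).prod = -1 := by decide +kernel

end NQ

open NQ

theorem Amb.le_nm (h : Amb u ω r) : N0 u r ≤ nm (sQ.map u) := sup_le le_normalizer (cl_nm h)

theorem Amb.real (h : Amb u ω r) {f : S → S} (hf : Au sQ f) :
    ∃ g ∈ N0 u r, ∀ x ∈ (sQ : Subgroup S), g * u x * g⁻¹ = u (f x) := by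
  obtain ⟨M, m, s, hs, hM, e⟩ := aut_Q hf
  obtain ⟨l, rfl, rfl⟩ := gen_sim hM
  refine ⟨u s * Wd r l, mul_mem (Q_mem hs) (Wd_mem l), fun x hx => ?_⟩
  rw [e x hx, map_mul, map_mul, map_inv, ← word_Q h l hx]
  group

theorem Amb.act (h : Amb u ω r) {g : C} (hg : g ∈ N0 u r) : ∃ π ∈ WW, ∀ i, g • ω i = ω (π i) := by
  obtain ⟨s, hs, l, rfl⟩ := dec h hg
  refine ⟨(l.map pr).prod, list_prod_mem fun x hx => ?_, fun i => by rw [mul_smul, word_ω h, h.fixQ s hs]⟩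
  obtain ⟨k, -, rfl⟩ := List.mem_map.1 hx
  exact subset_closure ⟨k, rfl⟩

theorem NQ.cen0 (h : Amb u ω r) {g k : C} (ho : ∃ i j, g • ω i = ω j) (hk : k ∈ N0 u r)
    (e : ∀ x ∈ (sQ : Subgroup S), g * u x * g⁻¹ = k * u x * k⁻¹) : ∃ z ∈ (sZ : Subgroup S), g = k * u z := by
  obtain ⟨i, j, ho⟩ := ho
  obtain ⟨π, -, hπ⟩ := h.act (inv_mem hk)
  obtain ⟨z, hz, e'⟩ := h.cen (k⁻¹ * g) (fun x hx => by
    calc k⁻¹ * g * u x = k⁻¹ * (g * u x * g⁻¹) * g := by group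
      _ = _ := by rw [e x hx]; group) ⟨i, π j, by rw [mul_smul, ho, hπ]⟩
  exact ⟨z, hz, by rw [← e', mul_inv_cancel_left]⟩

theorem Amb.mem (h : Amb u ω r) {g : C} (hg : g ∈ nm (sQ.map u)) (ho : ∃ i j, g • ω i = ω j) : g ∈ N0 u r := by
  obtain ⟨f, hf, e⟩ := Fa.of_nm h.inj hg
  obtain ⟨n, hn, e'⟩ := h.real hf.au
  obtain ⟨z, hz, rfl⟩ := cen0 h ho hn fun x hx => (e x hx).trans (e' x hx).symm
  exact mul_mem hn (Q_mem (Z_Q hz))

theorem Amb.ker (h : Amb u ω r) {g : C} (hg : g ∈ N0 u r) (ho : ∀ i, g • ω i = ω i) :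
    ∃ s ∈ (sQ : Subgroup S), g = u s ∨ g = u s * (r 0 * r 0) := by
  obtain ⟨s, hs, l, rfl⟩ := dec h hg
  have h1 : (l.map pr).prod = 1 := Equiv.ext fun i => h.oinj (by
    rw [← h.fixQ s hs ((l.map pr).prod i), ← word_ω h, ← mul_smul, ho]; rfl)
  have ho' : ∃ i j, Wd r l • ω i = ω j := ⟨0, _, word_ω h l 0⟩
  obtain ⟨h2 | h2, h3⟩ := ker_W h1
  · obtain ⟨z, hz, e⟩ := cen0 h ho' (one_mem _) fun x hx => by
      rw [word_Q h l hx, h2, h3, qa_one hx, one_mul, inv_one, mul_one]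
    exact ⟨s * z, mul_mem hs (Z_Q hz), Or.inl (by rw [e, one_mul, map_mul])⟩
  · obtain ⟨z, hz, e⟩ := cen0 h ho' (Wd_mem [0, 0]) fun x hx => by
      rw [word_Q h l hx, word_Q h _ hx, h2, h3, mr0]; rfl
    refine ⟨_, mul_mem hs (qa_mem ([0, 0].map MR).prod ((-1) ^ [(0 : Fin 6), 0].length) z), Or.inr ?_⟩
    rw [e, map_mul, ← word_Q h _ (Z_Q hz), show r 0 * r 0 = Wd r [0, 0] by simp [Wd]]
    group

theorem Amb.acts (h : Amb u ω r) (s : S) : ∃ π ∈ zpowers px, ∀ i, u s • ω i = ω (π i) := by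
  obtain ⟨q, hq, k, rfl⟩ := exists_pow s
  have key : ∀ (k : ℕ) (i : Fin 27), u (xx ^ k) • ω i = ω ((px ^ k) i) := fun k => by
    induction k with
    | zero => intro i; simp
    | succ k ih => intro i; rw [pow_succ', map_mul, mul_smul, ih, h.actx, pow_succ', Equiv.Perm.mul_apply]
  exact ⟨px ^ k, pow_mem (mem_zpowers px) k, fun i => by rw [map_mul, mul_smul, key, h.fixQ q hq]⟩

theorem Amb.range_le (h : Amb u ω r) : u.range ≤ N0 u r := by
  rintro _ ⟨s, rfl⟩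
  obtain ⟨π, -, e⟩ := h.acts s
  refine h.mem (SR3.mem_nm_of_conj ?_) ⟨0, _, e 0⟩
  rintro _ ⟨x, hx, rfl⟩
  exact ⟨_, nm_Q s x hx, by rw [map_mul, map_mul, map_inv]⟩

theorem Amb.cen' (h : Amb u ω r) {g k : C} (hg : g ∈ N0 u r) (hk : k ∈ N0 u r)
    (e : ∀ x ∈ (sQ : Subgroup S), g * u x * g⁻¹ = k * u x * k⁻¹) : ∃ z ∈ (sZ : Subgroup S), g = k * u z := by
  obtain ⟨π, -, hπ⟩ := h.act hg
  exact cen0 h ⟨0, _, hπ 0⟩ hk e

end Cfsg.Agent.U4T
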