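import Cfsg.Agent.U4T.Defs

/-! Project U4T: pointwise stabilizers are generated by reflections.  See `notes/U4T.md`. -/

set_option autoImplicit false
set_option maxRecDepth 100000

namespace Cfsg.Agent.U4T

open U4F FK Matrix Subgroup
open RFS (Au)
open SR3 (nm ce)
open H9 (F9)

namespace Stab

open H14 (app allN anyN allL force allN_iff anyN_iff allL_iff force_eq)

/-- the reflections on numbers -/
def rN (j i : ℕ) : ℕ := app 5 32 rfT (Nat.add (Nat.mul 27 j) i)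

/-- the invariant colouring of pairs of points -/
def cN (a b : ℕ) : ℕ := app 2 4 (nat_lit 0x25555545111000655554511104016555051540440565415450510415614454154404552155450045415521105554401545251505045115056105541141515125500544514451605415111455112444451505544460444554504554205544151451142511451151444461115451115045251445144540516115150510545125415114414511614550045545112155054401455521544045514445255041141455056540440551415565004111505555640011105555556) (Nat.add (Nat.mul 27 a) b)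

/-- the mask of the reflections fixing a point -/
def fN (b : ℕ) : ℕ := app 36 68719476736 (nat_lit 0x254bbbef09ab66ee7342fdd17355d359e996e9a96d5c95fca651d7b646559eaeb5696d8bb4b9ae1acf49ed932dab71e1f0f2cd566a6f9328b3aee1fed1235e733a5e64eccc78b6cdc7a6ada1d785b78a9bd86ee24bb679337437da9119cf8bfd888d77656cccc74bd2773532a2ef3cb911673cf7c0499cf7be) b

theorem hr : ∀ (j : Fin 36) (i : Fin 27), (rf j i).val = rN j i := by decide +kernel

theorem hc : (allN 36 fun j => allN 27 fun a => allN 27 fun b => Nat.beq (cN (rN j a) (rN j b)) (cN a b)) = true := by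
  decide +kernel

theorem hf : ∀ (b : Fin 27) (j : Fin 36), (fN b).testBit j = true → rf j b = b := by decide +kernel

/-- the permutations preserving the colouring -/
def PS : Subgroup (Equiv.Perm (Fin 27)) where
  carrier := {w | ∀ a b : Fin 27, cN (w a) (w b) = cN a b}
  one_mem' := fun _ _ => rfl
  mul_mem' := fun {v w} hv hw a b => (hv (w a) (w b)).trans (hw a b)
  inv_mem' := fun {w} hw a b => by
    have := hw (w⁻¹ a) (w⁻¹ b)
    simpa using this.symm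

theorem rp_PS (j : Fin 36) : rp j ∈ PS := fun a b => by
  have := allN_iff.1 (allN_iff.1 (allN_iff.1 hc j j.2) a a.2) b b.2
  rw [rp_apply, rp_apply, hr, hr]
  exact Nat.eq_of_beq_eq_true this

/-- the group generated by the reflections in a mask -/
def Hc (m : ℕ) : Subgroup (Equiv.Perm (Fin 27)) := closure {π | ∃ j : Fin 36, m.testBit j = true ∧ π = rp j}

/-- at most two reflections of the mask move `b` to `c` -/
noncomputable def reach (m b c : ℕ) : Bool :=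
  Nat.beq b c || anyN 36 (fun j => m.testBit j && Nat.beq (rN j b) c) ||
    anyN 36 fun j => m.testBit j && force (rN j b) fun d => anyN 36 fun k => m.testBit k && Nat.beq (rN k d) c

theorem reach_ok {m : ℕ} {b c : Fin 27} (h : reach m b c = true) : ∃ g ∈ Hc m, g b = c := by
  simp only [reach, Bool.or_eq_true, anyN_iff, Bool.and_eq_true, force_eq, H14.beq_iff] at h
  rcases h with (h | ⟨j, hj, h1, h2⟩) | ⟨j, hj, h1, k, hk, h2, h3⟩
  · exact ⟨1, one_mem _, Fin.ext h⟩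
  · exact ⟨rp ⟨j, hj⟩, subset_closure ⟨_, h1, rfl⟩, Fin.ext ((hr _ _).trans h2)⟩
  · refine ⟨rp ⟨k, hk⟩ * rp ⟨j, hj⟩, mul_mem (subset_closure ⟨_, h2, rfl⟩) (subset_closure ⟨_, h1, rfl⟩), Fin.ext ?_⟩
    rw [Equiv.Perm.mul_apply, rp_apply, rp_apply, hr, hr]
    exact h3

/-- the checker -/
noncomputable def chk (t : List ℕ) : ℕ → List ℕ → Bool :=
  List.rec (fun _ P => allN 27 fun x => !(allL P fun p => !(Nat.beq p x)))
    (fun b _ ih m P => Nat.blt b 27 &&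
      (allN 27 fun c => !(allL P fun p => Nat.beq (cN c p) (cN b p)) || reach m b c) &&
        force (Nat.land m (fN b)) fun m' => ih m' (b :: P)) t

theorem chk_ok (t : List ℕ) : ∀ (m : ℕ) (P : List ℕ), chk t m P = true → (∀ p ∈ P, p < 27) →
    (∀ j : Fin 36, m.testBit j = true → ∀ p : Fin 27, p.val ∈ P → rf j p = p) →
    ∀ w ∈ PS, (∀ p : Fin 27, p.val ∈ P → w p = p) → w ∈ Hc m := by
  induction t with
  | nil =>
    intro m P h _ _ w _ e
    have k : w = 1 := Equiv.ext fun x => e x (by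
      have := allN_iff.1 (show (allN 27 fun x => !(allL P fun p => !(Nat.beq p x))) = true from h) x x.2
      by_contra c
      rw [allL_iff.2 fun p hp => by
        have : ¬ Nat.beq p x = true := fun z => c (H14.beq_iff.1 z ▸ hp)
        rw [Bool.not_eq_true] at this
        rw [this]; rfl] at this
      exact absurd this (by decide))
    exact k ▸ one_mem _
  | cons b t ih =>
    intro m P h hP hm w hw e
    replace h : (Nat.blt b 27 &&
      (allN 27 fun c => !(allL P fun p => Nat.beq (cN c p) (cN b p)) || reach m b c) &&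
        force (Nat.land m (fN b)) fun m' => chk t m' (b :: P)) = true := h
    rw [Bool.and_eq_true, Bool.and_eq_true, force_eq, Nat.blt_eq] at h
    obtain ⟨⟨hb, h1⟩, h2⟩ := h
    obtain ⟨b, rfl⟩ : ∃ b' : Fin 27, b'.val = b := ⟨⟨b, hb⟩, rfl⟩
    have k := allN_iff.1 h1 (w b) (w b).2
    rw [allL_iff.2 fun p hp => by
      have := hw b ⟨p, hP p hp⟩
      rw [e ⟨p, hP p hp⟩ hp] at this
      exact H14.beq_iff.2 this] at k
    obtain ⟨g, hg, gb⟩ := reach_ok (by simpa using k)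
    have gP : g ∈ PS := (closure_le _).2 (by rintro _ ⟨j, -, rfl⟩; exact rp_PS j) hg
    have gf : ∀ p : Fin 27, p.val ∈ P → g p = p := fun p hp =>
      (closure_le (MulAction.stabilizer (Equiv.Perm (Fin 27)) p)).2
        (by rintro _ ⟨j, hj, rfl⟩; exact hm j hj p hp) hg
    have l : ∀ j : ℕ, (Nat.land m (fN b)).testBit j = true → m.testBit j = true ∧ (fN b).testBit j = true :=
      fun j hj => by simpa using (Nat.testBit_and m (fN b) j).symm.trans hj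
    have := ih _ _ h2 (List.forall_mem_cons.2 ⟨hb, hP⟩) (fun j hj p hp => by
      rcases List.mem_cons.1 hp with c | c
      · rw [Fin.ext c]; exact hf b j (l j hj).2
      · exact hm j (l j hj).1 p c) (g⁻¹ * w) (mul_mem (inv_mem gP) hw) fun p hp => by
      rw [Equiv.Perm.mul_apply, Equiv.Perm.inv_eq_iff_eq]
      rcases List.mem_cons.1 hp with c | c
      · rw [Fin.ext c, gb]
      · rw [e p c, gf p c]
    have h3 : g⁻¹ * w ∈ Hc m := Subgroup.closure_mono (by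
      rintro π ⟨j, hj, z⟩
      exact ⟨j, (l j hj).1, z⟩) this
    simpa using mul_mem hg h3

/-- masks, fixed points, and the order of the remaining points -/
def dt : List (ℕ × List ℕ × List ℕ) :=
  [(0x8c7, [4, 5, 6, 25, 26], [0, 14, 15, 20, 1, 11, 12, 13, 21, 22, 2, 3, 7, 8, 9, 10, 16, 17, 18, 19, 23, 24]),
  (0x11143, [3, 6, 7, 24, 26], [0, 14, 17, 20, 1, 10, 11, 16, 21, 22, 2, 4, 5, 8, 9, 12, 13, 15, 18, 19, 23, 25]),
  (0x22243, [3, 7, 8, 25, 26], [0, 14, 15, 18, 1, 11, 12, 13, 19, 23, 2, 4, 5, 6, 9, 10, 16, 17, 20, 21, 22, 24]),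
  (0x244043, [3, 4, 8, 24, 25], [0, 15, 17, 20, 1, 9, 12, 16, 21, 22, 2, 5, 6, 7, 10, 11, 13, 14, 18, 19, 23, 26]),
  (0x488043, [4, 5, 8, 24, 26], [0, 14, 17, 18, 1, 10, 11, 16, 19, 23, 2, 3, 6, 7, 9, 12, 13, 15, 20, 21, 22, 25]),
  (0x2900043, [5, 6, 7, 24, 25], [0, 15, 17, 18, 1, 9, 12, 16, 19, 23, 2, 3, 4, 8, 10, 11, 13, 14, 20, 21, 22, 26]),
  (0x25000043, [3, 4, 5, 7, 26], [6, 8, 24, 25, 0, 14, 15, 17, 18, 20, 1, 2, 9, 10, 11, 12, 13, 16, 19, 21, 22, 23]),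
  (0x98000043, [3, 5, 6, 8, 25], [4, 7, 24, 26, 0, 14, 15, 17, 18, 20, 1, 2, 9, 10, 11, 12, 13, 16, 19, 21, 22, 23]),
  (0x340000043, [4, 6, 7, 8, 24], [3, 5, 25, 26, 0, 14, 15, 17, 18, 20, 1, 2, 9, 10, 11, 12, 13, 16, 19, 21, 22, 23]),
  (0x119cf, [6, 26], [0, 14, 20, 1, 11, 21, 22, 2, 8, 9, 18, 19, 23, 3, 4, 5, 7, 10, 12, 13, 15, 16, 17, 24, 25]),
  (0x22ae7, [25, 26], [0, 14, 15, 1, 11, 12, 13, 2, 9, 10, 16, 17, 24, 3, 4, 5, 6, 7, 8, 18, 19, 20, 21, 22, 23]),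
  (0x244cc7, [4, 25], [0, 15, 20, 1, 12, 21, 22, 2, 7, 10, 18, 19, 23, 3, 5, 6, 8, 9, 11, 13, 14, 16, 17, 24, 26]),
  (0x7400008c7, [4, 6], [5, 25, 26, 0, 14, 15, 20, 1, 11, 12, 13, 21, 22, 2, 3, 7, 8, 9, 10, 16, 17, 18, 19, 23, 24]),
  (0x4aa24b, [8, 26], [0, 14, 18, 1, 11, 19, 23, 2, 6, 9, 20, 21, 22, 3, 4, 5, 7, 10, 12, 13, 15, 16, 17, 24, 25]),
  (0x3d800004b, [6, 8], [3, 5, 25, 4, 7, 24, 26, 0, 14, 15, 17, 18, 20, 1, 2, 9, 10, 11, 12, 13, 16, 19, 21, 22, 23]),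
  (0x255153, [3, 24], [0, 17, 20, 1, 16, 21, 22, 2, 5, 13, 18, 19, 23, 4, 6, 7, 8, 9, 10, 11, 12, 14, 15, 25, 26]),
  (0x2d88053, [5, 24], [0, 17, 18, 1, 16, 19, 23, 2, 3, 13, 20, 21, 22, 4, 6, 7, 8, 9, 10, 11, 12, 14, 15, 25, 26]),
  (0xbd000053, [3, 5], [4, 7, 26, 6, 8, 24, 25, 0, 14, 15, 17, 18, 20, 1, 2, 9, 10, 11, 12, 13, 16, 19, 21, 22, 23]),
  (0x499163, [24, 26], [0, 14, 17, 1, 10, 11, 16, 2, 9, 12, 13, 15, 25, 3, 4, 5, 6, 7, 8, 18, 19, 20, 21, 22, 23]),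
  (0x2b44063, [24, 25], [0, 15, 17, 1, 9, 12, 16, 2, 10, 11, 13, 14, 26, 3, 4, 5, 6, 7, 8, 18, 19, 20, 21, 22, 23]),
  (0x498011143, [3, 6], [5, 8, 25, 4, 7, 24, 26, 0, 14, 15, 17, 18, 20, 1, 2, 9, 10, 11, 12, 13, 16, 19, 21, 22, 23]),
  (0x2922643, [7, 25], [0, 15, 18, 1, 12, 19, 23, 2, 4, 10, 20, 21, 22, 3, 5, 6, 8, 9, 11, 13, 14, 16, 17, 24, 26]),
  (0xb40022243, [7, 8], [3, 25, 26, 0, 14, 15, 18, 1, 11, 12, 13, 19, 23, 2, 4, 5, 6, 9, 10, 16, 17, 20, 21, 22, 24]),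
  (0x365000443, [4, 7], [3, 5, 26, 6, 8, 24, 25, 0, 14, 15, 17, 18, 20, 1, 2, 9, 10, 11, 12, 13, 16, 19, 21, 22, 23]),
  (0x425244043, [3, 4], [5, 7, 26, 6, 8, 24, 25, 0, 14, 15, 17, 18, 20, 1, 2, 9, 10, 11, 12, 13, 16, 19, 21, 22, 23]),
  (0x898488043, [5, 8], [3, 6, 25, 4, 7, 24, 26, 0, 14, 15, 17, 18, 20, 1, 2, 9, 10, 11, 12, 13, 16, 19, 21, 22, 23]),
  (0x827900043, [5, 7], [3, 4, 26, 6, 8, 24, 25, 0, 14, 15, 17, 18, 20, 1, 2, 9, 10, 11, 12, 13, 16, 19, 21, 22, 23]),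
  (0x254888c7, [4, 5, 26], [0, 14, 6, 15, 20, 25, 1, 11, 12, 13, 21, 22, 2, 3, 7, 8, 9, 10, 16, 17, 18, 19, 23, 24]),
  (0x9a9008c7, [5, 6, 25], [0, 15, 4, 14, 20, 26, 1, 11, 12, 13, 21, 22, 2, 3, 7, 8, 9, 10, 16, 17, 18, 19, 23, 24]),
  (0x25033343, [3, 7, 26], [0, 14, 6, 17, 20, 24, 1, 10, 11, 16, 21, 22, 2, 4, 5, 8, 9, 12, 13, 15, 18, 19, 23, 25]),
  (0x342911143, [6, 7, 24], [0, 17, 3, 14, 20, 26, 1, 10, 11, 16, 21, 22, 2, 4, 5, 8, 9, 12, 13, 15, 18, 19, 23, 25]),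
  (0x98266243, [3, 8, 25], [0, 15, 4, 17, 20, 24, 1, 9, 12, 16, 21, 22, 2, 5, 6, 7, 10, 11, 13, 14, 18, 19, 23, 26]),
  (0x3406cc043, [4, 8, 24], [0, 17, 3, 15, 20, 25, 1, 9, 12, 16, 21, 22, 2, 5, 6, 7, 10, 11, 13, 14, 18, 19, 23, 26]),
  (0x254bbbef, [26], [0, 14, 1, 11, 6, 20, 21, 22, 2, 8, 9, 18, 19, 23, 3, 4, 5, 7, 10, 12, 13, 15, 16, 17, 24, 25]),
  (0x7da9119cf, [6], [5, 25, 0, 15, 4, 14, 20, 26, 1, 11, 12, 13, 21, 22, 2, 3, 7, 8, 9, 10, 16, 17, 18, 19, 23, 24]),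
  (0x8bfd888d7, [5], [4, 26, 0, 14, 6, 15, 20, 25, 1, 11, 12, 13, 21, 22, 2, 3, 7, 8, 9, 10, 16, 17, 18, 19, 23, 24]),
  (0x9ab66ee7, [25], [0, 15, 1, 12, 4, 20, 21, 22, 2, 7, 10, 18, 19, 23, 3, 5, 6, 8, 9, 11, 13, 14, 16, 17, 24, 26]),
  (0x7656cccc7, [4], [5, 26, 0, 14, 6, 15, 20, 25, 1, 11, 12, 13, 21, 22, 2, 3, 7, 8, 9, 10, 16, 17, 18, 19, 23, 24]),
  (0xbd86ee24b, [8], [3, 25, 0, 15, 4, 17, 20, 24, 1, 9, 12, 16, 21, 22, 2, 5, 6, 7, 10, 11, 13, 14, 18, 19, 23, 26]),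
  (0x342fdd173, [24], [0, 17, 1, 16, 3, 20, 21, 22, 2, 5, 13, 18, 19, 23, 4, 6, 7, 8, 9, 10, 11, 12, 14, 15, 25, 26]),
  (0x4bd277353, [3], [7, 26, 0, 14, 6, 17, 20, 24, 1, 10, 11, 16, 21, 22, 2, 4, 5, 8, 9, 12, 13, 15, 18, 19, 23, 25]),
  (0xb67933743, [7], [3, 26, 0, 14, 6, 17, 20, 24, 1, 10, 11, 16, 21, 22, 2, 4, 5, 8, 9, 12, 13, 15, 18, 19, 23, 25])]

theorem dt_ST : dt.map Prod.fst = ST := by decide +kernel

theorem dt_ok : (allL dt fun x => !x.2.1.isEmpty &&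
    (allL x.2.1 fun p => Nat.blt p 27 && Nat.beq (Nat.land x.1 (fN p)) x.1) && chk x.2.2 x.1 x.2.1) = true := by
  decide +kernel

end Stab

open Stab in
theorem stab {m : ℕ} (hm : m ∈ ST) : (∃ i, ∀ j : Fin 36, m.testBit j = true → rf j i = i) ∧
    ∀ w ∈ WW, (∀ i, (∀ j : Fin 36, m.testBit j = true → rf j i = i) → w i = i) →
      w ∈ closure {π | ∃ j : Fin 36, m.testBit j = true ∧ π = rp j} := by
  obtain ⟨⟨m, P, t⟩, hx, rfl⟩ := List.mem_map.1 (dt_ST ▸ hm)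
  have h := H14.allL_iff.1 dt_ok _ hx
  simp only [Bool.and_eq_true, H14.allL_iff, Nat.blt_eq, H14.beq_iff] at h
  obtain ⟨⟨h1, h2⟩, h3⟩ := h
  have k : ∀ p : Fin 27, p.val ∈ P → ∀ j : Fin 36, m.testBit j = true → rf j p = p := fun p hp j hj => by
    have := Nat.testBit_and m (fN p) j
    rw [show m &&& fN p = m from (h2 p hp).2, hj, Bool.true_and] at this
    exact hf p j this.symm
  refine ⟨?_, fun w hw e => chk_ok t m P h3 (fun p hp => (h2 p hp).1) (fun j hj p hp => k p hp j hj) w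
    ((closure_le _).2 (by rintro _ ⟨j, rfl⟩; exact rp_PS _) hw) fun p hp => e p (k p hp)⟩
  cases P with
  | nil => simp at h1
  | cons p P => exact ⟨⟨p, (h2 p List.mem_cons_self).1⟩, k _ List.mem_cons_self⟩

end Cfsg.Agent.U4T
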