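import Cfsg.Agent.U4T.Root
import Cfsg.Agent.U4T.Stab

/-! Project U4T: subgroups of the Weyl group with Sylow 3-subgroup of order three.  See `notes/U4T.md`. -/

set_option autoImplicit false

namespace Cfsg.Agent.U4T

open U4F FK Matrix Subgroup
open RFS (Au)
open SR3 (nm ce)
open H9 (F9)

namespace Star

theorem sq (j : Fin 36) : rp j * rp j = 1 := Equiv.ext (rf_rf j)

theorem inv (j : Fin 36) : (rp j)⁻¹ = rp j := inv_eq_of_mul_eq_one_right (sq j)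

theorem cjW {w : Equiv.Perm (Fin 27)} (hw : w ∈ WW) : ∀ j, ∃ j', w * rp j * w⁻¹ = rp j' := by
  have k : ∀ (a : Fin 6) j, ∃ j', pr a * rp j * pr a = rp j' := fun a j =>
    ((by decide +kernel : ∀ (a : Fin 6) j, ∃ j', ∀ i, rf (a.castLE (by decide)) (rf j (rf (a.castLE (by decide)) i)) =
      rf j' i) a j).imp fun _ => Equiv.ext
  have e : ∀ a, (pr a)⁻¹ = pr a := fun a => inv _
  induction hw using closure_induction'' with
  | mem x hx => obtain ⟨a, rfl⟩ := hx; rw [e]; exact k a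
  | inv_mem x hx => obtain ⟨a, rfl⟩ := hx; rw [e, e]; exact k a
  | one => exact fun j => ⟨j, by simp⟩
  | mul x y _ _ h1 h2 =>
    intro j
    obtain ⟨a, ha⟩ := h2 j
    obtain ⟨b, hb⟩ := h1 a
    exact ⟨b, by rw [← hb, ← ha]; group⟩

theorem cube {a b : Fin 36} (h : ¬ Commute (rp a) (rp b)) : (rp a * rp b) ^ 3 = 1 := by
  refine ((by decide +kernel : ∀ a b, (∀ i, rf a (rf b i) = rf b (rf a i)) ∨
    ∀ i, rf a (rf b (rf a (rf b (rf a (rf b i))))) = i) a b).elim (fun e => (h (Equiv.ext e)).elim) fun e => ?_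
  rw [pow_succ, pow_two]
  exact Equiv.ext e

theorem ne {a b : Fin 36} (h : ¬ Commute (rp a) (rp b)) : rp a * rp b ≠ 1 := fun e => h (by
  rw [eq_inv_of_mul_eq_one_left e]; exact (Commute.refl _).inv_left)

theorem nine {Y : Subgroup (Equiv.Perm (Fin 27))} {a b c d : Fin 36} (ha : rp a ∈ Y) (hb : rp b ∈ Y) (hc : rp c ∈ Y)
    (hd : rp d ∈ Y) (h1 : ¬ Commute (rp a) (rp b)) (h2 : ¬ Commute (rp c) (rp d)) (ac : Commute (rp a) (rp c))
    (ad : Commute (rp a) (rp d)) (bc : Commute (rp b) (rp c)) (bd : Commute (rp b) (rp d)) : 9 ∣ Nat.card Y := by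
  have : Fact (Nat.Prime 3) := ⟨Nat.prime_three⟩
  have cm : Commute (rp a * rp b) (rp c * rp d) := (ac.mul_right ad).mul_left (bc.mul_right bd)
  have e := SR3.card_sup_zpowers (p := 3) (X := zpowers (rp a * rp b)) (y := rp c * rp d)
    (SR3.ce_le_nm le_rfl fun x ⟨k, hk⟩ => hk ▸ (cm.zpow_left k).eq) (cube h2 ▸ one_mem _) fun ⟨k, hk⟩ => by
      have e1 : rp a * (rp a * rp b) * (rp a)⁻¹ = (rp a * rp b)⁻¹ := by
        rw [← mul_assoc, sq, one_mul, _root_.mul_inv_rev, inv, inv]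
      have e2 : rp a * (rp c * rp d) * (rp a)⁻¹ = (rp c * rp d)⁻¹ := by
        rw [← show (rp a * rp b) ^ k = rp c * rp d from hk, ← conj_zpow, e1, _root_.inv_zpow]
      rw [(ac.mul_right ad).eq, mul_inv_cancel_right, eq_inv_iff_mul_eq_one] at e2
      have e3 := cube h2
      rw [pow_succ, pow_two, e2, one_mul] at e3
      exact ne h2 e3
  rw [SR3.card_zpowers_eq (cube h1) (ne h1)] at e
  exact (show _ = 9 from e) ▸ card_dvd_of_le (sup_le (zpowers_le.2 (mul_mem ha hb)) (zpowers_le.2 (mul_mem hc hd)))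

end Star

open Cfsg.Agent.U4T.Star

theorem star {Y : Subgroup (Equiv.Perm (Fin 27))} (hW : Y ≤ WW) (h0 : pr 0 ∈ Y) (hx : px ∈ Y)
    (h9 : ¬ 9 ∣ Nat.card Y) (hn : ∃ y ∈ Y, y * px * y⁻¹ ∉ zpowers px) :
    ∃ P : Set (Fin 27), P.Nonempty ∧ (∀ y ∈ Y, ∀ i ∈ P, y i ∈ P) ∧ (∀ i ∈ P, px i = i) ∧
      ∀ w ∈ WW, (∀ i ∈ P, w i = i) → w ∈ Y := by
  let D : Set (Fin 36) := {j | ∃ y ∈ Y, rp j = y * rp 0 * y⁻¹}
  have DY : ∀ j ∈ D, rp j ∈ Y := fun j ⟨y, hy, e⟩ => e ▸ mul_mem (mul_mem hy h0) (inv_mem hy)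
  have cj : ∀ y ∈ Y, ∀ j ∈ D, ∀ j', rp j' = y * rp j * y⁻¹ → j' ∈ D := fun y hy j ⟨z, hz, e⟩ j' e' =>
    ⟨y * z, mul_mem hy hz, by rw [e', e]; group⟩
  have ex : ∀ y ∈ Y, ∀ j ∈ D, ∃ j' ∈ D, y * rp j * y⁻¹ = rp j' := fun y hy j hj =>
    let ⟨j', e⟩ := cjW (hW hy) j
    ⟨j', cj y hy j hj j' e.symm, e⟩
  have d0 : 0 ∈ D := ⟨1, one_mem _, by simp⟩
  have d1 : 1 ∈ D := ⟨px, hx, by
    rw [eq_mul_inv_iff_mul_eq]
    exact Equiv.ext (by decide +kernel : ∀ i, rf 1 (rf 0 (rf 1 i)) = rf 0 (rf 1 (rf 0 i)))⟩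
  have n01 : ¬ Commute (rp 0) (rp 1) := fun e =>
    (by decide +kernel : ¬ ∀ i, rf 0 (rf 1 i) = rf 1 (rf 0 i)) (DFunLike.congr_fun e.eq)
  obtain ⟨m, hm, e⟩ := root D d0 d1 (fun a ha b hb c e => cj _ (DY a ha) b hb c (by rw [e, inv]))
    (fun a ⟨y, hy, e⟩ => by
      obtain ⟨b, hb, e'⟩ := ex y hy 1 d1
      refine ⟨b, hb, fun c => n01 ?_⟩
      rw [e, ← e'] at c
      have := c.eq
      rw [conj_mul, conj_mul] at this
      exact mul_left_cancel (mul_right_cancel this))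
    (fun a ha b hb c hc d hd h1 h2 ac ad bc bd => h9 (nine (DY a ha) (DY b hb) (DY c hc) (DY d hd) h1 h2 ac ad bc bd))
    (by
      by_contra hc
      obtain ⟨y, hy, hn⟩ := hn
      obtain ⟨a, ha, ea⟩ := ex y hy 0 d0
      obtain ⟨b, hb, eb⟩ := ex y hy 1 d1
      have k : ∀ a ∈ D, a = 0 ∨ a = 1 ∨ a = 6 := fun a ha => by
        by_contra h
        exact hc ⟨a, ha, by tauto⟩
      refine hn ?_
      rw [show y * px * y⁻¹ = rp a * rp b by rw [← ea, ← eb, conj_mul]; rfl]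
      rcases (by decide +kernel : ∀ a, (a = 0 ∨ a = 1 ∨ a = 6) → ∀ b, (b = 0 ∨ b = 1 ∨ b = 6) →
        (∀ i, rf a (rf b i) = i) ∨ (∀ i, rf a (rf b i) = rf 0 (rf 1 i)) ∨
          ∀ i, rf a (rf b i) = rf 0 (rf 1 (rf 0 (rf 1 i)))) a (k a ha) b (k b hb) with e | e | e
      · exact (show 1 = rp a * rp b from (Equiv.ext e).symm) ▸ one_mem _
      · exact (show px = rp a * rp b from (Equiv.ext e).symm) ▸ mem_zpowers _
      · exact (show px * px = rp a * rp b from (Equiv.ext e).symm) ▸ mul_mem (mem_zpowers _) (mem_zpowers _))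
  obtain ⟨⟨i, hi⟩, hs⟩ := stab hm
  refine ⟨{i | ∀ j ∈ D, rf j i = i}, ⟨i, fun j hj => hi j ((e j).1 hj)⟩, fun y hy i hi j hj => ?_, fun i hi => ?_,
    fun w hw h => (closure_le _).2 ?_ (hs w hw fun i hi => h i fun j hj => hi j ((e j).1 hj))⟩
  · obtain ⟨j', hj', e'⟩ := ex y⁻¹ (inv_mem hy) j hj
    have := DFunLike.congr_fun e' i
    rw [rp_apply, hi j' hj', inv_inv, Equiv.Perm.mul_apply, Equiv.Perm.mul_apply, Equiv.Perm.inv_eq_iff_eq] at this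
    exact this
  · show rf 0 (rf 1 i) = i
    rw [hi 1 d1, hi 0 d0]
  · rintro _ ⟨j, hj, rfl⟩
    exact DY j ((e j).2 hj)

end Cfsg.Agent.U4T
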