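import Cfsg.Agent.U4T.Yh
import Cfsg.Agent.U4T.Star

/-! Project U4T: the fixed points.  See `notes/U4T.md`. -/

set_option autoImplicit false

namespace Cfsg.Agent.U4T

open U4F FK Matrix Subgroup
open RFS (Au)
open SR3 (nm ce)
open H9 (F9)

variable {C L : Type} [Group C] [Finite C] [MulAction C L] {u : S →* C} {ω : Fin 27 → L} {r : Fin 6 → C}
  {G : Type*} [Group G] [Finite G] {v : S →* G}

namespace Yb

omit [Finite C] in
theorem uq (h : Amb u ω r) {g : C} {π π' : Equiv.Perm (Fin 27)} (e : ∀ i, g • ω i = ω (π i))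
    (e' : ∀ i, g • ω i = ω (π' i)) : π = π' := Equiv.ext fun i => h.oinj ((e i).symm.trans (e' i))

omit [Finite G] in
theorem exists_rho (h : Amb u ω r) (v : S →* G) : ∃ ρ : Yh u r v →* Equiv.Perm (Fin 27),
    (∀ (g : Yh u r v) i, (g : C) • ω i = ω (ρ g i)) ∧ ρ.range = Pm ω (Yh u r v) := by
  choose π _ hπ using fun g : Yh u r v => h.act g.2.1
  refine ⟨MonoidHom.mk' π fun a b => uq h (hπ (a * b)) fun i => ?_, hπ, le_antisymm ?_ ?_⟩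
  · rw [coe_mul, mul_smul, hπ, hπ]; rfl
  · rintro _ ⟨g, rfl⟩
    exact ⟨g, g.2, hπ g⟩
  · rintro p ⟨g, hg, e⟩
    exact ⟨⟨g, hg⟩, uq h (hπ ⟨g, hg⟩) e⟩

theorem px3 : px ^ 3 = 1 := Equiv.ext (by decide +kernel)

end Yb

open Yb

theorem Amb.nine (h : Amb u ω r) (hv : Hy v) : ¬ 9 ∣ Nat.card (Pm ω (Yh u r v)) := by
  obtain ⟨ρ, hρ, e⟩ := exists_rho h v
  intro h9
  have le : (u.range.subgroupOf (Yh u r v)).map ρ ≤ zpowers px := by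
    rintro _ ⟨g, ⟨s, hs⟩, rfl⟩
    obtain ⟨π, hπ, k⟩ := h.acts s
    rwa [uq h (hρ g) (π' := π) fun i => (congrArg (· • ω i) hs).symm.trans (k i)]
  have c3 : Nat.card ((u.range.subgroupOf (Yh u r v)).map ρ) ∣ 3 :=
    (card_dvd_of_le le).trans (by rw [Nat.card_zpowers]; exact orderOf_dvd_of_pow_eq_one px3)
  have m := (((u.range.subgroupOf (Yh u r v)).map ρ).subgroupOf ρ.range).card_mul_index
  rw [Nat.card_congr (subgroupOfEquivOfLe (map_le_range _ _)).toEquiv] at m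
  rw [← e, ← m] at h9
  have d : 3 ∣ ((u.range.subgroupOf (Yh u r v)).map ρ).relIndex ρ.range :=
    Nat.dvd_of_mul_dvd_mul_left (by norm_num : 0 < 3) (h9.trans (mul_dvd_mul_right c3 _))
  rw [MonoidHom.range_eq_map ρ, relIndex_map_map, top_sup_eq, relIndex_top_right] at d
  exact h.syl_Yh hv (d.trans (index_dvd_of_le le_sup_left))

theorem Amb.nn (h : Amb u ω r) (hv : Hy v) : ∃ y ∈ Pm ω (Yh u r v), y * px * y⁻¹ ∉ zpowers px := by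
  obtain ⟨ρ, hρ, e⟩ := exists_rho h v
  obtain ⟨f, hf, ne⟩ := hv.ess
  obtain ⟨g, hg, k⟩ := h.real hf.au
  let g' : Yh u r v := ⟨g, hg, f, hf, k⟩
  let x' : Yh u r v := ⟨u xx, h.range_Yh ⟨xx, rfl⟩⟩
  have ex : ρ x' = px := uq h (hρ x') h.actx
  refine ⟨ρ g', e ▸ ⟨g', rfl⟩, fun ⟨n, hn⟩ => ne ?_⟩
  have e1 : ρ (g' * x' * g'⁻¹ * (x' ^ n)⁻¹) = 1 := by
    rw [map_mul, map_mul, map_mul, map_inv, map_inv, map_zpow, ex, ← hn, mul_inv_cancel]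
  obtain ⟨s, -, hs⟩ := h.ker (g' * x' * g'⁻¹ * (x' ^ n)⁻¹).2.1 fun i => by rw [hρ, e1]; rfl
  have e2 : ((g' * x' * g'⁻¹ * (x' ^ n)⁻¹ : Yh u r v) : C) = g * u xx * g⁻¹ * (u (xx ^ n))⁻¹ := by
    rw [map_zpow]; rfl
  rw [e2, mul_inv_eq_iff_eq_mul, mul_inv_eq_iff_eq_mul (b := u (xx ^ n))] at hs
  have xQ : xx ∉ (sQ : Subgroup S) := fun e => one_ne_zero (α := F9) e
  have e3 : ∀ a ∈ (sQ : Subgroup S), u (f (xx * a * xx⁻¹)) = g * u xx * g⁻¹ * u (f a) * (g * u xx * g⁻¹)⁻¹ :=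
    fun a ha => by rw [← k _ (nm_Q xx a ha), ← k a ha, map_mul, map_mul, map_inv]; group
  have cj : ∀ s : S, Fa v ⊤ fun a => s * a * s⁻¹ := fun s => Fa.conj v s fun _ _ => trivial
  have ft : Fa v ⊤ tt := ⟨au_tor (by decide) (by decide), hv.tt⟩
  rcases hs with hs | hs
  · refine hv.two.ti hf xQ (cj (s * xx ^ n)) fun a ha => h.inj ?_
    rw [e3 a ha, hs]
    simp only [map_mul, map_inv]
  · refine hv.two.ti hf xQ ((cj s).comp (ft.comp (ft.comp (cj (xx ^ n))))) fun a ha => h.inj ?_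
    rw [e3 a ha, hs, map_mul, map_mul, ← h.r0, ← h.r0, map_mul, map_mul, map_inv, map_inv]
    group

theorem Amb.exists_P (h : Amb u ω r) (hv : Hy v) : ∃ P : Set (Fin 27), P.Nonempty ∧
    (∀ y ∈ Yh u r v, ∀ i ∈ P, ∃ j ∈ P, y • ω i = ω j) ∧ (∀ i ∈ P, px i = i) ∧
      ∀ g ∈ N0 u r, (∀ i ∈ P, g • ω i = ω i) → g ∈ Yh u r v := by
  obtain ⟨P, h1, h2, h3, h4⟩ := star (Y := Pm ω (Yh u r v))
    (fun π ⟨g, hg, e⟩ => by
      obtain ⟨π', m, e'⟩ := h.act hg.1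
      exact uq h e' e ▸ m)
    ⟨_, h.r0_Yh hv, h.actr 0⟩ ⟨_, h.range_Yh ⟨xx, rfl⟩, h.actx⟩ (h.nine hv) (h.nn hv)
  refine ⟨P, h1, fun y hy i hi => ?_, h3, fun g hg e => ?_⟩
  · obtain ⟨π, -, e⟩ := h.act hy.1
    exact ⟨π i, h2 π ⟨y, hy, e⟩ i hi, e i⟩
  · obtain ⟨π, m, e'⟩ := h.act hg
    exact h.full hv hg (h4 π m fun i hi => h.oinj ((e' i).symm.trans (e i hi))) e'

end Cfsg.Agent.U4T
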