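import Cfsg.Agent.U4T.N0

/-! Project U4T: the group attached to a fusion system.  See `notes/U4T.md`. -/

set_option autoImplicit false

namespace Cfsg.Agent.U4T

open U4F FK Matrix Subgroup
open RFS (Au)
open SR3 (nm ce)
open H9 (F9)

variable {C L : Type} [Group C] [Finite C] [MulAction C L] {u : S →* C} {ω : Fin 27 → L} {r : Fin 6 → C}
  {G : Type*} [Group G] [Finite G] {v : S →* G}

theorem Yh_le : Yh u r v ≤ N0 u r := fun _ h => h.1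

theorem Amb.range_Yh (h : Amb u ω r) : u.range ≤ Yh u r v := by
  rintro _ ⟨s, rfl⟩
  exact ⟨h.range_le ⟨s, rfl⟩, _, Fa.conj v s (nm_Q s), fun x _ => by simp⟩

theorem Amb.r0_Yh (h : Amb u ω r) (hv : Hy v) : r 0 ∈ Yh u r v := by
  have f : Fa v ⊤ tt := ⟨au_tor (by decide) (by decide), hv.tt⟩
  refine ⟨mem_sup_right (subset_closure ⟨0, rfl⟩), tt, f.res le_top fun x hx => ?_, fun x _ => h.r0 x⟩
  simp [tt, mem_sQ.1 hx]

theorem Amb.syl_Yh (h : Amb u ω r) (hv : Hy v) : ¬ 3 ∣ u.range.relIndex (Yh u r v) := fun d => by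
  have l := hv.two.sat.loc nm_Q
  let Φ : Subgroup (C × G) := nm (sQ.map (u.prod v)) ⊓ (N0 u r).comap (MonoidHom.fst C G)
  have mem : ∀ p : C × G, p ∈ Φ ↔ p.1 ∈ N0 u r ∧ ∃ f, Au sQ f ∧ (∀ x ∈ (sQ : Subgroup S), p.1 * u x * p.1⁻¹ = u (f x)) ∧
      ∀ x ∈ (sQ : Subgroup S), p.2 * v x * p.2⁻¹ = v (f x) := fun p => by
    refine ⟨fun ⟨h1, h2⟩ => ?_, fun ⟨h1, f, hf, e1, e2⟩ =>
      ⟨nm_of_ind hf.mem fun x hx => Prod.ext (e1 x hx) (e2 x hx), h1⟩⟩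
    obtain ⟨f, hf, e⟩ := Fa.of_nm (u := u.prod v) (fun a b e => h.inj (congrArg Prod.fst e)) h1
    exact ⟨h2, f, hf.au, fun x hx => congrArg Prod.fst (e x hx), fun x hx => congrArg Prod.snd (e x hx)⟩
  have e1 : Φ.map (MonoidHom.fst C G) = Yh u r v := by
    refine le_antisymm ?_ fun g ⟨h1, f, ⟨hf, k, hk⟩, e⟩ => ⟨(g, k), (mem _).2 ⟨h1, f, hf, e, hk⟩, rfl⟩
    rintro _ ⟨p, hp, rfl⟩
    obtain ⟨h1, f, hf, e1, e2⟩ := (mem p).1 hp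
    exact ⟨h1, f, ⟨hf, p.2, e2⟩, e1⟩
  have e2 : Φ.map (MonoidHom.snd C G) = nm (sQ.map v) := by
    refine le_antisymm ?_ fun k hk => ?_
    · rintro _ ⟨p, hp, rfl⟩
      obtain ⟨-, f, hf, -, e2⟩ := (mem p).1 hp
      exact nm_of_ind hf.mem e2
    · obtain ⟨f, hf, e⟩ := Fa.of_nm hv.two.sat.inj hk
      obtain ⟨g, hg, e'⟩ := h.real hf.au
      exact ⟨(g, k), (mem _).2 ⟨hg, f, hf.au, e', e⟩, rfl⟩
  refine l.syl (d.trans ?_)
  rw [← e1, ← e2, ← relIndex_comap, ← relIndex_comap, ← inf_relIndex_right (comap (MonoidHom.snd C G) _)]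
  refine relIndex_dvd_of_le_left _ fun p ⟨h1, hp⟩ => ?_
  obtain ⟨h2, f, -, e1, e2⟩ := (mem p).1 hp
  obtain ⟨_, ⟨s, rfl⟩, c, hc, e⟩ := (SR3.mem_sup_of_nm fun _ k => SR3.nm_ce (l.norm k)).1 h1
  obtain ⟨z, -, k⟩ := h.cen' h2 (h.range_le ⟨s, rfl⟩) fun x hx => by
    rw [e1 x hx, ← map_inv, ← map_mul, ← map_mul]
    refine congrArg u (hv.two.sat.inj ?_)
    rw [← e2 x hx, map_mul, map_mul, map_inv, show p.2 = v s * c from e.symm, mul_assoc (v s),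
      ← SR3.mem_ce.1 hc _ ⟨x, hx, rfl⟩]
    group
  exact ⟨s * z, by rw [map_mul, ← k]; rfl⟩

theorem Amb.full (h : Amb u ω r) (hv : Hy v) {g : C} (hg : g ∈ N0 u r) {π : Equiv.Perm (Fin 27)}
    (hπ : π ∈ Pm ω (Yh u r v)) (e : ∀ i, g • ω i = ω (π i)) : g ∈ Yh u r v := by
  obtain ⟨y, hy, e'⟩ := hπ
  obtain ⟨s, -, k⟩ := h.ker (mul_mem (inv_mem hy.1) hg) fun i => by rw [mul_smul, e, ← e', inv_smul_smul]
  refine (mul_mem_cancel_left (inv_mem hy)).1 ?_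
  rcases k with k | k <;> rw [k]
  exacts [h.range_Yh ⟨s, rfl⟩, mul_mem (h.range_Yh ⟨s, rfl⟩) (mul_mem (h.r0_Yh hv) (h.r0_Yh hv))]

end Cfsg.Agent.U4T
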